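import Cfsg.Agent.H643.QO.Cov_m3
import Cfsg.Agent.H75.QO.Red_m3
import Cfsg.Agent.FastGrp
import Cfsg.Agent.Prune
set_option linter.all false

section
prune_inst 0x7f00000000000000000000000000000000000000000000000000000000000000000000000000000000000000000000000000000000000000000000000000000000000000000000000000000000000000003fffffffffffffffffffffffffffbeffbdffffffff

-- part: H235/QS/O7C1
section
set_option linter.all false
open scoped Cfsg.Agent.FastGrp
private noncomputable def lq2644d723fe {T : Sort _} (f :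
    type_of% (@_root_.List.cons.{0}) →
    type_of% (@_root_.Prod.mk.{0, 0}) →
    type_of% (@_root_.List.nil.{0}) →
    type_of% (@_root_.Cfsg.Agent.H235.Ore.Eng.Lv.mk) →
    type_of% (@_root_.List.cons.{0} (Nat)) →
    type_of% (@_root_.Cfsg.Agent.H235.Ore.Eng.Ct.mk) → T) : T :=
  f (@_root_.List.cons.{0}) (@_root_.Prod.mk.{0, 0}) (@_root_.List.nil.{0}) (@_root_.Cfsg.Agent.H235.Ore.Eng.Lv.mk) (@_root_.List.cons.{0} (Nat)) (@_root_.Cfsg.Agent.H235.Ore.Eng.Ct.mk)

/-!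
# Class representatives of `Ω₇(3)` under `SO₇(3)`: centralizers, orders, fixed points, part 1 (helper235)
-/

set_option autoImplicit false
set_option maxRecDepth 100000

namespace Cfsg.Agent.H235.QS.O7C

open Cfsg.Agent.H235.Ore.Eng Cfsg.Agent.H235.QS.O7M Subgroup Equiv

open Cfsg.Agent.SporadicA.PermTab (lk allB allB_iff)

private def pt (T k i : ℕ) : ℕ := Nat.rec i (fun _ j => Nat.land (Nat.shiftRight T (Nat.mul 11 j)) 2047) k

private theorem tb_eq {X : List ℕ} {T : ℕ} (h : allB (fun i => Nat.beq (lk T i) (act X i)) 378 = true) (i : Fin 378) :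
    lk T i = (wd X i : ℕ) :=
  (Nat.eq_of_beq_eq_true ((allB_iff _ _).1 h i i.2)).trans (act_eq X i)

private theorem pv_pt {X : List ℕ} {T : ℕ} (h : ∀ i : Fin 378, lk T i = (wd X i : ℕ)) : Pv (wd X) (pt T) := by
  intro k i
  induction k with
  | zero => rfl
  | succ k ih =>
    rw [pow_succ', Perm.mul_apply, ← h, ← ih]
    rfl

private theorem bndT {X : List ℕ} {T : ℕ} (hT : ∀ i : Fin 378, lk T i = (wd X i : ℕ)) {l : List Lv} {m : ℕ}
    (h : run 378 R (pt T) m base l [] = true) : Nat.card ↥(centralizer ({w2 X} : Set ↥M2)) ≤ bd l := by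
  rw [card_cen]
  exact le_of_run (pv_pt hT) l [] _ (fun c hc => cen_good hc) (fun c hc hb => cen_base hc hb)
    (fun c _ f hf => absurd hf List.not_mem_nil) h


def x01 : List ℕ := [3, 5, 1]
private def t01 : ℕ := nat_lit 0x8b9460d8290090c60905a07a95624216c6800b1681048297229e43c328ad17c0707f1600a4334530160e6474a40f70965c0570c503c1aca89162ce158808d5172034941590c45e084843058098148f11e03c84f09c13a0e41d03b26e4d49b08e116220418970062184b004100260029490e847c660a702a134b78f824c184ad0b71ac0382210a2f25408a86a1603100f9002cc150098c7146460a286e1e8124b481b1562fca69100c6584288fc19e2d8051202b0170b89070804f8a013f050094158a014227c738e81d20c0190310fe2144108912a0204609400c23c498070e046ca60181922a82796d1f6178af1250222e8698472185d0aa1120cc2cc6082220458c2c8a9032328a586f2383e82816b184084589130ce554b20582063485e0102485742f976216118758ec1d44f49d93c1322684d92a2604b46f8dc1b21e43b07c1b44d0178dd2660b47013205c4b8710362623841c12b1c60dc3e8900021dc490020f4244001272b6180060d7170420211772a44503482015e30cb28551fe51c8f07214a3380b8f62dc1305e8ac03a5383210e0a657c7e8b51a20249105a2ae0fc831731902880a1192881b4b50f30940f41f03c2704e49d0810fc2101a833068394720e611a21c451431da0a8a08ef04e508770240463005906822254c2b96220803c5d8d40ba5709184521a5d4658a8034468a50712d83e4270de1b036c9492c25e1e03d875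
private theorem e01 : ∀ i : Fin 378, lk t01 i = (wd x01 i : ℕ) := tb_eq (by decide +kernel)
def l01 : List Lv := (beta% delta% lq2644d723fe fun a b c d _ _ =>
 (a (d 245 c (a (b 1 1)<|c) c 72)<|
 a (d 166 (a (b 245 1)<|a (b 369 1)<|c) (a (b 1 0)<|c) c 16)<|
 a (d 204 (a (b 245 1)<|a (b 369 1)<|a (b 166 1)<|a (b 349 0)<|c) (a (b 1 0)<|c) c 3)<|
 a (d 127 (a (b 245 1)<|a (b 369 1)<|a (b 349 1)<|a (b 204 1)<|c) (a (b 1 0)<|c) c 2)<|
 a (d 215 (a (b 369 1)<|a (b 166 1)<|a (b 293 1)<|a (b 245 0)<|c) c c 2)<|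
 a (d 249 (a (b 204 1)<|a (b 293 1)<|a (b 127 1)<|a (b 215 0)<|a (b 112 1)<|c) (a (b 1 0)<|c) c 2)<|
 a (d 143 (a (b 245 1)<|a (b 349 1)<|a (b 227 1)<|a (b 369 0)<|a (b 112 0)<|c) c c 1)<|
 a (d 140 (a (b 369 1)<|a (b 166 1)<|a (b 204 1)<|a (b 227 1)<|a (b 215 0)<|c) (a (b 1 0)<|c) c 1)<|
 a (d 216 (a (b 166 1)<|a (b 293 1)<|a (b 127 1)<|a (b 10 1)<|c) (a (b 1 0)<|c) c 1)<|
 a (d 26 (a (b 140 1)<|a (b 245 1)<|a (b 369 1)<|a (b 216 0)<|c) (a (b 1 1)<|c) c 1)<|
 a (d 272 (a (b 369 1)<|a (b 166 1)<|a (b 127 1)<|a (b 245 0)<|a (b 215 1)<|c) c c 1)<|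
 a (d 290 (a (b 204 1)<|a (b 10 1)<|a (b 143 1)<|a (b 15 1)<|a (b 218 1)<|c) c c 1)<|c))
private theorem _root_.Cfsg.Agent.KOf078396.e0.{ku, kv} {α : Type kv} {M : List α → Sort ku} (φ : ∀ l, M l) {z : M List.nil} {s : ∀ a l, M l → M (List.cons a l)} (h0 : φ List.nil = z) (hs : ∀ a l, φ (List.cons a l) = s a l (φ l)) (l : List α) : φ l = @List.rec α M z s l := List.rec h0 (fun a l ih => (hs a l).trans (congrArg (s a l) ih)) l
private noncomputable def _root_.Cfsg.Agent.KOf078396.k1.{ku0} : type_of% @List.all.{ku0} := @(fun x0 x1 x2 => @List.rec.{(ku0+1), ku0} @x0 @(fun x3 => (@x0 → @Bool) → @Bool) @(fun x3 => @Bool.true) @(fun x3 x4 x5 x6 => @Bool.rec.{1} @(fun x7 => @Bool) @Bool.false (@x5 @x6) (@x6 @x3)) @x1 @x2)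
private theorem _root_.Cfsg.Agent.KOf078396.e1.{ku0} : @List.all.{ku0} = @_root_.Cfsg.Agent.KOf078396.k1.{ku0} := by delta _root_.Cfsg.Agent.KOf078396.k1; funext a0 a1 a2; refine (congrFun (_root_.Cfsg.Agent.KOf078396.e0 (fun a1 a2 => @List.all.{ku0} a0 a1 a2) ?_ (fun c0 c1 => ?_) a1) a2 :) <;> (rfl')
private noncomputable def _root_.Cfsg.Agent.KOf078396.k2.{ku0} : type_of% @List.any.{ku0} := @(fun x0 x1 x2 => @List.rec.{(ku0+1), ku0} @x0 @(fun x3 => (@x0 → @Bool) → @Bool) @(fun x3 => @Bool.false) @(fun x3 x4 x5 x6 => @Bool.rec.{1} @(fun x7 => @Bool) (@x5 @x6) @Bool.true (@x6 @x3)) @x1 @x2)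
private theorem _root_.Cfsg.Agent.KOf078396.e2.{ku0} : @List.any.{ku0} = @_root_.Cfsg.Agent.KOf078396.k2.{ku0} := by delta _root_.Cfsg.Agent.KOf078396.k2; funext a0 a1 a2; refine (congrFun (_root_.Cfsg.Agent.KOf078396.e0 (fun a1 a2 => @List.any.{ku0} a0 a1 a2) ?_ (fun c0 c1 => ?_) a1) a2 :) <;> (rfl')
private noncomputable def _root_.Cfsg.Agent.KOf078396.k3.{ku0} : type_of% @List.append.{ku0} := @(fun x0 x1 x2 => @List.rec.{(ku0+1), ku0} @x0 @(fun x3 => (@List.{ku0} @x0) → @List.{ku0} @x0) @(fun x3 => @x3) @(fun x3 x4 x5 x6 => @x3 :: (@x5 @x6)) @x1 @x2)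
private theorem _root_.Cfsg.Agent.KOf078396.e3.{ku0} : @List.append.{ku0} = @_root_.Cfsg.Agent.KOf078396.k3.{ku0} := by delta _root_.Cfsg.Agent.KOf078396.k3; funext a0 a1 a2; refine (congrFun (_root_.Cfsg.Agent.KOf078396.e0 (fun a1 a2 => @List.append.{ku0} a0 a1 a2) ?_ (fun c0 c1 => ?_) a1) a2 :) <;> (rfl')
private noncomputable def _root_.Cfsg.Agent.KOf078396.k4.{ku0, ku1} : type_of% @List.map.{ku0, ku1} := @(fun x0 x1 x2 x3 => @List.rec.{(ku1+1), ku0} @x0 @(fun x4 => @List.{ku1} @x1) [] @(fun x4 x5 x6 => (@x2 @x4) :: @x6) @x3)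
private theorem _root_.Cfsg.Agent.KOf078396.e4.{ku0, ku1} : @List.map.{ku0, ku1} = @_root_.Cfsg.Agent.KOf078396.k4.{ku0, ku1} := by delta _root_.Cfsg.Agent.KOf078396.k4; funext a0 a1 a2 a3; refine (_root_.Cfsg.Agent.KOf078396.e0 (fun a3 => @List.map.{ku0, ku1} a0 a1 a2 a3) ?_ (fun c0 c1 => ?_) a3 :) <;> (rfl')
private theorem _root_.Cfsg.Agent.KOf078396.e5.{ku} {M : Nat → Sort ku} (φ : ∀ n, M n) {z : M Nat.zero} {s : ∀ n, M n → M (Nat.succ n)} (h0 : φ Nat.zero = z) (hs : ∀ n, φ (Nat.succ n) = s n (φ n)) (n : Nat) : φ n = @Nat.rec M z s n := Nat.rec h0 (fun n ih => (hs n).trans (congrArg (s n) ih)) n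
private noncomputable def _root_.Cfsg.Agent.KOf078396.k6 : type_of% @List.range.loop := @(fun x0 x1 => @Nat.rec.{1} @(fun x2 => (@List.{0} ℕ) → @List.{0} ℕ) @(fun x2 => @x2) @(fun x2 x3 x4 => @x3 (@x2 :: @x4)) @x0 @x1)
private theorem _root_.Cfsg.Agent.KOf078396.e6 : @List.range.loop = @_root_.Cfsg.Agent.KOf078396.k6 := by delta _root_.Cfsg.Agent.KOf078396.k6; funext a0 a1; refine (congrFun (_root_.Cfsg.Agent.KOf078396.e5 (fun a0 a1 => @List.range.loop a0 a1) ?_ (fun c0 => ?_) a0) a1 :) <;> (rfl')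
private noncomputable def _root_.Cfsg.Agent.KOf078396.k7 : (by first | exact type_of% @Cfsg.Agent.H235.Ore.Eng.nx | exact Unit : Sort _) := by first | (refine @Subtype.val _ (fun g => @Cfsg.Agent.H235.Ore.Eng.nx = @g) (@Subtype.mk _ _ (@(fun x0 x1 x2 x3 => @Cfsg.Agent.KOf078396.k3.{0} _ (@Cfsg.Agent.KOf078396.k4.{0, 0} _ _ @(fun x4 => @x0 @x4 @x3) (@Cfsg.Agent.KOf078396.k6 @x1 [])) @x2)) ?_); rewrite [← Cfsg.Agent.KOf078396.e6, ← Cfsg.Agent.KOf078396.e4.{0, 0}, ← Cfsg.Agent.KOf078396.e3.{0}]; rfl') | exact @Cfsg.Agent.H235.Ore.Eng.nx | exact ()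
private theorem _root_.Cfsg.Agent.KOf078396.e7 : (by first | exact @Cfsg.Agent.H235.Ore.Eng.nx = @_root_.Cfsg.Agent.KOf078396.k7 | exact True : Prop) := by first | (delta _root_.Cfsg.Agent.KOf078396.k7; exact @Subtype.property _ (fun g => @Cfsg.Agent.H235.Ore.Eng.nx = @g) _) | rfl | trivial
private noncomputable def _root_.Cfsg.Agent.KOf078396.k8 : (by first | exact type_of% @Cfsg.Agent.H235.Ore.Eng.cnt | exact Unit : Sort _) := by first | (refine @Subtype.val _ (fun g => @Cfsg.Agent.H235.Ore.Eng.cnt = @g) (@Subtype.mk _ _ (@(fun x0 x1 => @Nat.rec.{1} @(fun x2 => ℕ) (nat_lit 0) @(fun x2 x3 => @Bool.rec.{1} @(fun x4 => ℕ) @x3 (@Nat.succ @x3) (@x1 @x2)) @x0)) ?_); rfl') | exact @Cfsg.Agent.H235.Ore.Eng.cnt | exact ()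
private theorem _root_.Cfsg.Agent.KOf078396.e8 : (by first | exact @Cfsg.Agent.H235.Ore.Eng.cnt = @_root_.Cfsg.Agent.KOf078396.k8 | exact True : Prop) := by first | (delta _root_.Cfsg.Agent.KOf078396.k8; exact @Subtype.property _ (fun g => @Cfsg.Agent.H235.Ore.Eng.cnt = @g) _) | rfl | trivial
private noncomputable def _root_.Cfsg.Agent.KOf078396.k9.{ku0, ku1} : type_of% @List.foldr.{ku0, ku1} := @(fun x0 x1 x2 x3 x4 => @List.rec.{(ku1+1), ku0} @x0 @(fun x5 => @x1) @x3 @(fun x5 x6 x7 => @x2 @x5 @x7) @x4)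
private theorem _root_.Cfsg.Agent.KOf078396.e9.{ku0, ku1} : @List.foldr.{ku0, ku1} = @_root_.Cfsg.Agent.KOf078396.k9.{ku0, ku1} := by delta _root_.Cfsg.Agent.KOf078396.k9; funext a0 a1 a2 a3 a4; refine (_root_.Cfsg.Agent.KOf078396.e0 (fun a4 => @List.foldr.{ku0, ku1} a0 a1 a2 a3 a4) ?_ (fun c0 c1 => ?_) a4 :) <;> (rfl')
private noncomputable def _root_.Cfsg.Agent.KOf078396.k10 : (by first | exact type_of% @Cfsg.Agent.H235.Ore.Eng.cz | exact Unit : Sort _) := by first | (refine @Subtype.val _ (fun g => @Cfsg.Agent.H235.Ore.Eng.cz = @g) (@Subtype.mk _ _ (@(fun x0 x1 x2 => @Cfsg.Agent.KOf078396.k9.{0, 0} _ _ @(fun x3 x4 => @Bool.rec.{1} @(fun x5 => ℕ) @x4 (@Nat.succ @x4) (@Nat.beq (@x0 @x1 @x3) (nat_lit 1))) (nat_lit 0) @x2)) ?_); rewrite [← Cfsg.Agent.KOf078396.e9.{0, 0}]; rfl') | exact @Cfsg.Agent.H235.Ore.Eng.cz | exact ()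
private theorem _root_.Cfsg.Agent.KOf078396.e10 : (by first | exact @Cfsg.Agent.H235.Ore.Eng.cz = @_root_.Cfsg.Agent.KOf078396.k10 | exact True : Prop) := by first | (delta _root_.Cfsg.Agent.KOf078396.k10; exact @Subtype.property _ (fun g => @Cfsg.Agent.H235.Ore.Eng.cz = @g) _) | rfl | trivial
private noncomputable def _root_.Cfsg.Agent.KOf078396.k11 : (by first | exact type_of% @Cfsg.Agent.H235.Ore.Eng.tt | exact Unit : Sort _) := by first | (refine @Subtype.val _ (fun g => @Cfsg.Agent.H235.Ore.Eng.tt = @g) (@Subtype.mk _ _ (@(fun x0 x1 x2 x3 x4 => @Bool.rec.{1} @(fun x5 => @Bool) @Bool.false (@Cfsg.Agent.KOf078396.k1.{0} _ @x3 @(fun x5 => @Nat.beq (@x0 @x4 (@x1 (@Prod.fst.{0, 0} _ _ @x5) @x4)) (@Prod.snd.{0, 0} _ _ @x5))) (@Cfsg.Agent.KOf078396.k1.{0} _ @x2 @(fun x5 => @Nat.beq (@x0 (@Prod.fst.{0, 0} _ _ @x5) @x4) (@Prod.snd.{0, 0} _ _ @x5))))) ?_); rewrite [← Cfsg.Agent.KOf078396.e1.{0}]; rfl') | exact @Cfsg.Agent.H235.Ore.Eng.tt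 | exact ()
private theorem _root_.Cfsg.Agent.KOf078396.e11 : (by first | exact @Cfsg.Agent.H235.Ore.Eng.tt = @_root_.Cfsg.Agent.KOf078396.k11 | exact True : Prop) := by first | (delta _root_.Cfsg.Agent.KOf078396.k11; exact @Subtype.property _ (fun g => @Cfsg.Agent.H235.Ore.Eng.tt = @g) _) | rfl | trivial
private noncomputable def _root_.Cfsg.Agent.KOf078396.k12 : (by first | exact type_of% @Cfsg.Agent.H235.Ore.Eng.cand | exact Unit : Sort _) := by first | (refine @Subtype.val _ (fun g => @Cfsg.Agent.H235.Ore.Eng.cand = @g) (@Subtype.mk _ _ (@(fun x0 x1 x2 x3 => @Bool.rec.{1} @(fun x4 => @Bool) @Bool.false (@Cfsg.Agent.KOf078396.k1.{0} _ (@Cfsg.Agent.H235.Ore.Eng.Lv.cs @x2) @(fun x4 => @Nat.beq (@Cfsg.Agent.KOf078396.k10 @x0 @x3 (@Cfsg.Agent.H235.Ore.Eng.Ct.Z @x4)) (@Cfsg.Agent.H235.Ore.Eng.Ct.v @x4))) (@Cfsg.Agent.KOf078396.k11 @x0 @x1 (@Cfsg.Agent.H235.Ore.Eng.Lv.fs @x2) (@Cfsg.Agent.H235.Ore.Eng.Lv.ks @x2) @x3))) ?_); rewrite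 [← Cfsg.Agent.KOf078396.e11, ← Cfsg.Agent.KOf078396.e10, ← Cfsg.Agent.KOf078396.e1.{0}]; (try delta Cfsg.Agent.H235.Ore.Eng.cand); (try generalize @Cfsg.Agent.H235.Ore.Eng.cz = g0); (try generalize @Cfsg.Agent.H235.Ore.Eng.tt = g1); rfl') | exact @Cfsg.Agent.H235.Ore.Eng.cand | exact ()
private theorem _root_.Cfsg.Agent.KOf078396.e12 : (by first | exact @Cfsg.Agent.H235.Ore.Eng.cand = @_root_.Cfsg.Agent.KOf078396.k12 | exact True : Prop) := by first | (delta _root_.Cfsg.Agent.KOf078396.k12; exact @Subtype.property _ (fun g => @Cfsg.Agent.H235.Ore.Eng.cand = @g) _) | rfl | trivial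
private noncomputable def _root_.Cfsg.Agent.KOf078396.k14 : (by first | exact type_of% @Cfsg.Agent.H235.Ore.Eng.beqL | exact Unit : Sort _) := by first | (refine @Subtype.val _ (fun g => @Cfsg.Agent.H235.Ore.Eng.beqL = @g) (@Subtype.mk _ _ (@(fun (x0 : @List.{0} @Nat) (x1 : @List.{0} @Nat) => @List.rec.{1, 0} @Nat @(fun (x2 : @List.{0} @Nat) => ((@List.{0} @Nat) → @Bool)) @(fun (x2 : @List.{0} @Nat) => @List.rec.{1, 0} @Nat @(fun (x3 : @List.{0} @Nat) => (((@Nat.hasNotBit (nat_lit 1) (@List.ctorIdx.{0} @Nat @x3)) → @Bool) → @Bool)) @(fun (x3 : ((@Nat.hasNotBit (nat_lit 1) (@List.ctorIdx.{0} @Nat (@List.nil.{0} @Nat))) → @Bool)) => @Bool.true) @(fun (x3 : @Nat) (x4 : @List.{0} @Nat) (x5 : (((@Nat.hasNotBit (nat_lit 1) (@List.ctorIdx.{0} @Nat @x4)) → @Bool) → @Bool)) (x6 : ((@Nat.hasNotBit (nat_lit 1) (@List.ctorIdx.{0} @Nat (@List.cons.{0} @Nat @x3 @x4))) → @Bool)) => @x6 (@Nat.ne_of_beq_eq_false (@Nat.land (@OfNat.ofNat.{0} @Nat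 (nat_lit 1) (@instOfNatNat (nat_lit 1))) (@Nat.shiftRight (nat_lit 1) (nat_lit 1))) (@OfNat.ofNat.{0} @Nat (nat_lit 1) (@instOfNatNat (nat_lit 1))) (@Eq.refl.{1} @Bool @Bool.false))) @x2 @(fun (x3 : @Nat.hasNotBit (nat_lit 1) (@List.ctorIdx.{0} @Nat @x2)) => @Bool.false)) @(fun (x2 : @Nat) (x3 : @List.{0} @Nat) (x4 : ((@List.{0} @Nat) → @Bool)) (x5 : @List.{0} @Nat) => @List.rec.{1, 0} @Nat @(fun (x6 : @List.{0} @Nat) => (((@Nat.hasNotBit (nat_lit 2) (@List.ctorIdx.{0} @Nat @x6)) → @Bool) → @Bool)) @(fun (x6 : ((@Nat.hasNotBit (nat_lit 2) (@List.ctorIdx.{0} @Nat (@List.nil.{0} @Nat))) → @Bool)) => @x6 (@Nat.ne_of_beq_eq_false (@Nat.land (@OfNat.ofNat.{0} @Nat (nat_lit 1) (@instOfNatNat (nat_lit 1))) (@Nat.shiftRight (nat_lit 2) (nat_lit 0))) (@OfNat.ofNat.{0} @Nat (nat_lit 1) (@instOfNatNat (nat_lit 1))) (@Eq.refl.{1} @Bool @Bool.false))) @(fun (x6 : @Nat) (x7 : @List.{0} @Nat) (x8 : (((@Nat.hasNotBit (nat_lit 2) (@List.ctorIdx.{0}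 @Nat @x7)) → @Bool) → @Bool)) (x9 : ((@Nat.hasNotBit (nat_lit 2) (@List.ctorIdx.{0} @Nat (@List.cons.{0} @Nat @x6 @x7))) → @Bool)) => @Bool.rec.{1} @(fun (x10 : @Bool) => @Bool) @Bool.false (@x4 @x7) (@Nat.beq @x2 @x6)) @x5 @(fun (x6 : @Nat.hasNotBit (nat_lit 2) (@List.ctorIdx.{0} @Nat @x5)) => @Bool.false)) @x0 @x1)) ?_); funext a0 a1; refine (congrFun (_root_.Cfsg.Agent.KOf078396.e0 (fun a0 a1 => @Cfsg.Agent.H235.Ore.Eng.beqL a0 a1) ?_ (fun c0 c1 => ?_) a0) a1 :) <;> [(funext b0; (cases b0 with | @nil  => (rfl') | @cons b0_0 b0_1 => (rfl'))); (funext b0; (cases b0 with | @nil  => (rfl') | @cons b0_0 b0_1 => (rfl')))]) | exact @Cfsg.Agent.H235.Ore.Eng.beqL | exact ()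
private theorem _root_.Cfsg.Agent.KOf078396.e14 : (by first | exact @Cfsg.Agent.H235.Ore.Eng.beqL = @_root_.Cfsg.Agent.KOf078396.k14 | exact True : Prop) := by first | (delta _root_.Cfsg.Agent.KOf078396.k14; exact @Subtype.property _ (fun g => @Cfsg.Agent.H235.Ore.Eng.beqL = @g) _) | rfl | trivial
private noncomputable def _root_.Cfsg.Agent.KOf078396.k15 : (by first | exact type_of% @Cfsg.Agent.H235.Ore.Eng.filt | exact Unit : Sort _) := by first | (refine @Subtype.val _ (fun g => @Cfsg.Agent.H235.Ore.Eng.filt = @g) (@Subtype.mk _ _ (@(fun x0 x1 => @Nat.rec.{1} @(fun x2 => @List.{0} ℕ) [] @(fun x2 x3 => @Bool.rec.{1} @(fun x4 => @List.{0} ℕ) @x3 (@x2 :: @x3) (@x1 @x2)) @x0)) ?_); rfl') | exact @Cfsg.Agent.H235.Ore.Eng.filt | exact ()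
private theorem _root_.Cfsg.Agent.KOf078396.e15 : (by first | exact @Cfsg.Agent.H235.Ore.Eng.filt = @_root_.Cfsg.Agent.KOf078396.k15 | exact True : Prop) := by first | (delta _root_.Cfsg.Agent.KOf078396.k15; exact @Subtype.property _ (fun g => @Cfsg.Agent.H235.Ore.Eng.filt = @g) _) | rfl | trivial
private noncomputable def _root_.Cfsg.Agent.KOf078396.k16 : (by first | exact type_of% @Cfsg.Agent.H235.Ore.Eng.vOk | exact Unit : Sort _) := by first | (refine @Subtype.val _ (fun g => @Cfsg.Agent.H235.Ore.Eng.vOk = @g) (@Subtype.mk _ _ (@(fun x0 x1 x2 x3 x4 => @Bool.rec.{1} @(fun x5 => @Bool) @Bool.false (@Bool.rec.{1} @(fun x5 => @Bool) @Bool.false (@Bool.rec.{1} @(fun x5 => @Bool) @Bool.false (@Cfsg.Agent.KOf078396.k12 @x1 @x2 @x4 (@Cfsg.Agent.H235.Ore.Eng.Lv.p @x4)) (@Cfsg.Agent.KOf078396.k1.{0} _ (@Cfsg.Agent.H235.Ore.Eng.Lv.cs @x4) @(fun x5 => @Bool.rec.{1} @(fun x6 => @Bool) @Bool.false (@Cfsg.Agent.KOf078396.k14 (@Cfsg.Agent.KOf078396.k15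 @x0 (@Cfsg.Agent.KOf078396.k11 @x1 @x2 (@Cfsg.Agent.H235.Ore.Eng.Ct.fs @x5) (@Cfsg.Agent.H235.Ore.Eng.Ct.ks @x5))) (@Cfsg.Agent.H235.Ore.Eng.Ct.Z @x5)) (@Cfsg.Agent.KOf078396.k1.{0} _ (@Cfsg.Agent.H235.Ore.Eng.Ct.fs @x5) @(fun x6 => @Cfsg.Agent.KOf078396.k2.{0} _ @x3 @(fun x7 => @Nat.beq (@Prod.fst.{0, 0} _ _ @x6) @x7)))))) (@Cfsg.Agent.KOf078396.k1.{0} _ (@Cfsg.Agent.H235.Ore.Eng.Lv.fs @x4) @(fun x5 => @Cfsg.Agent.KOf078396.k2.{0} _ @x3 @(fun x6 => @Nat.beq (@Prod.fst.{0, 0} _ _ @x5) @x6)))) (@Nat.ble (@Nat.succ (@Cfsg.Agent.H235.Ore.Eng.Lv.p @x4)) @x0))) ?_); rewrite [← Cfsg.Agent.KOf078396.e2.{0}, ← Cfsg.Agent.KOf078396.e11, ← Cfsg.Agent.KOf078396.e15, ← Cfsg.Agent.KOf078396.e14, ← Cfsg.Agent.KOf078396.e1.{0}, ← Cfsg.Agent.KOf078396.e12]; (try delta Cfsg.Agent.H235.Ore.Eng.vOk Cfsg.Agent.H235.Ore.Eng.elemN); (try generalize @Cfsg.Agent.H235.Ore.Eng.cand = g0); (try generalize @Cfsg.Agent.H235.Ore.Eng.beqL = g1); (try generalize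 @Cfsg.Agent.H235.Ore.Eng.filt = g2); (try generalize @Cfsg.Agent.H235.Ore.Eng.tt = g3); rfl') | exact @Cfsg.Agent.H235.Ore.Eng.vOk | exact ()
private theorem _root_.Cfsg.Agent.KOf078396.e16 : (by first | exact @Cfsg.Agent.H235.Ore.Eng.vOk = @_root_.Cfsg.Agent.KOf078396.k16 | exact True : Prop) := by first | (delta _root_.Cfsg.Agent.KOf078396.k16; exact @Subtype.property _ (fun g => @Cfsg.Agent.H235.Ore.Eng.vOk = @g) _) | rfl | trivial
private noncomputable def _root_.Cfsg.Agent.KOf078396.k17 : (by first | exact type_of% @Cfsg.Agent.H235.Ore.Eng.run | exact Unit : Sort _) := by first | (refine @Subtype.val _ (fun g => @Cfsg.Agent.H235.Ore.Eng.run = @g) (@Subtype.mk _ _ (@(fun x0 x1 x2 x3 x4 x5 x6 => @List.rec.{1, 0} @Cfsg.Agent.H235.Ore.Eng.Lv @(fun x7 => (@List.{0} ℕ) → @Bool) @(fun x7 => @Cfsg.Agent.KOf078396.k1.{0} _ @x4 @(fun x8 => @Cfsg.Agent.KOf078396.k2.{0} _ @x7 @(fun x9 => @Nat.beq @x8 @x9))) @(fun x7 x8 x9 x10 => @Bool.rec.{1}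 @(fun x11 => @Bool) @Bool.false (@x9 (@Cfsg.Agent.KOf078396.k7 @x2 @x3 @x10 (@Cfsg.Agent.H235.Ore.Eng.Lv.p @x7))) (@Bool.rec.{1} @(fun x11 => @Bool) @Bool.false (@Nat.beq (@Cfsg.Agent.KOf078396.k8 @x0 (@Cfsg.Agent.KOf078396.k12 @x1 @x2 @x7)) (@Cfsg.Agent.H235.Ore.Eng.Lv.n @x7)) (@Cfsg.Agent.KOf078396.k16 @x0 @x1 @x2 @x10 @x7))) @x5 @x6)) ?_); rewrite [← Cfsg.Agent.KOf078396.e16, ← Cfsg.Agent.KOf078396.e12, ← Cfsg.Agent.KOf078396.e8, ← Cfsg.Agent.KOf078396.e7, ← Cfsg.Agent.KOf078396.e2.{0}, ← Cfsg.Agent.KOf078396.e1.{0}]; funext a0 a1 a2 a3 a4 a5 a6; refine (congrFun (_root_.Cfsg.Agent.KOf078396.e0 (fun a5 a6 => @Cfsg.Agent.H235.Ore.Eng.run a0 a1 a2 a3 a4 a5 a6) ?_ (fun c0 c1 => ?_) a5) a6 :) <;> ((try delta Cfsg.Agent.H235.Ore.Eng.run Cfsg.Agent.H235.Ore.Eng.run._f Cfsg.Agent.H235.Ore.Eng.elemN); (try generalize @Cfsg.Agent.H235.Ore.Eng.nx = g0); (try generalize @Cfsg.Agent.H235.Ore.Eng.cnt = g1); (try generalize @Cfsg.Agent.H235.Ore.Eng.cand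 = g2); (try generalize @Cfsg.Agent.H235.Ore.Eng.vOk = g3); rfl')) | exact @Cfsg.Agent.H235.Ore.Eng.run | exact ()
private theorem _root_.Cfsg.Agent.KOf078396.e17 : (by first | exact @Cfsg.Agent.H235.Ore.Eng.run = @_root_.Cfsg.Agent.KOf078396.k17 | exact True : Prop) := by first | (delta _root_.Cfsg.Agent.KOf078396.k17; exact @Subtype.property _ (fun g => @Cfsg.Agent.H235.Ore.Eng.run = @g) _) | rfl | trivial
private noncomputable def _root_.Cfsg.Agent.KOf078396.k18 : (by first | exact type_of% @Cfsg.Agent.H235.QS.O7M.R | exact Unit : Sort _) := by first | (refine @Subtype.val _ (fun g => @Cfsg.Agent.H235.QS.O7M.R = @g) (@Subtype.mk _ _ (@(fun x0 x1 => @Bool.rec.{1} @(fun x2 => ℕ) (@Nat.land (@Nat.shiftRight @Cfsg.Agent.H235.QS.O7M.adjM (@Nat.add (@Nat.mul (nat_lit 378) @x0) @x1)) (nat_lit 1)) (nat_lit 2) (@Nat.beq @x0 @x1))) ?_); (try delta Cfsg.Agent.H235.QS.O7M.R Cfsg.Agent.SporadicA.PermTab.bitM); (try generalize @Cfsg.Agent.H235.QS.O7M.adjM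 = g0); rfl') | exact @Cfsg.Agent.H235.QS.O7M.R | exact ()
private theorem _root_.Cfsg.Agent.KOf078396.e18 : (by first | exact @Cfsg.Agent.H235.QS.O7M.R = @_root_.Cfsg.Agent.KOf078396.k18 | exact True : Prop) := by first | (delta _root_.Cfsg.Agent.KOf078396.k18; exact @Subtype.property _ (fun g => @Cfsg.Agent.H235.QS.O7M.R = @g) _) | rfl | trivial
private noncomputable def _root_.Cfsg.Agent.KOf078396.k19 : (by first | exact type_of% @Cfsg.Agent.H235.QS.O7C.pt | exact Unit : Sort _) := by first | (refine @Subtype.val _ (fun g => @Cfsg.Agent.H235.QS.O7C.pt = @g) (@Subtype.mk _ _ (@(fun x0 x1 x2 => @Nat.rec.{1} @(fun x3 => ℕ) @x2 @(fun x3 x4 => @Nat.land (@Nat.shiftRight @x0 (@Nat.mul (nat_lit 11) @x4)) (nat_lit 2047)) @x1)) ?_); rfl') | exact @Cfsg.Agent.H235.QS.O7C.pt | exact ()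
private theorem _root_.Cfsg.Agent.KOf078396.e19 : (by first | exact @Cfsg.Agent.H235.QS.O7C.pt = @_root_.Cfsg.Agent.KOf078396.k19 | exact True : Prop) := by first | (delta _root_.Cfsg.Agent.KOf078396.k19; exact @Subtype.property _ (fun g => @Cfsg.Agent.H235.QS.O7C.pt = @g) _) | rfl | trivial

theorem b01 : Nat.card ↥(centralizer ({w2 x01} : Set ↥M2)) ≤ 27648 :=
  (bndT e01 (l := l01) (m := 2) (by (first | (rewrite [Cfsg.Agent.KOf078396.e17, Cfsg.Agent.KOf078396.e18, Cfsg.Agent.KOf078396.e19]; decide +kernel) | decide +kernel))).trans (by decide)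
theorem o01 : orderOf (wd x01) = 2 := orderOf_eq (pv_pt e01) (ps := [2]) (by norm_num) (by norm_num)
  (by decide +kernel) (by norm_num)
theorem f01 : fixN (wd x01) = 18 := by
  rw [← pow_one (wd x01), fixN_pow (pv_pt e01)]
  decide +kernel
theorem g01 : fixN (wd x01 ^ 2) = 378 := by
  rw [fixN_pow (pv_pt e01)]
  decide +kernel
theorem a01 : adjN R (wd x01) = 72 := by
  rw [adjN_val (f := lk t01) e01]
  decide +kernel

def x02 : List ℕ := [6, 5]
private def t02 : ℕ := nat_lit 0x2104b0a81402c8450a40fc24856098110270470b01042884a086154268460ae13c2005309054cae94c292548ac95828c538aa94a2bc568a8947288558a695c296550ad9482a055ca294f1c8394730f21e03c46e8e01b43b4770ef1d03a4738df1b2370758e31b03b0708db1d43886f0730d41802e86f0cc1942d06e0e4184358670e21782d8630da188348740be1a03805c0c81b07d9042163fc848f820e3d47e90c2063e4808f62143cc828fc21a3e8811081ee400830f41fc5009f13f2704e49d12e2624ac9b13726a504a11432604a89693c2684a49e9322584ec9992f03e0300b02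201e0640e0090260380f0170220840d00b0360500682002a04011818014074090bc1542c85c8a715e2d8520ac1502e8588a516e2b8510b41562ec548b3170298580b51462b441886100230478890f41f43b8850fe208470881161f03b07913a2543f09e1262044e0941082804c0871422584509f12e2344d0920ea26c480781322443d91425047c8d9112484808b90e23a49c8a91223848c9110f2304588f12622646892910232484ba96b2c65c0b31772c05ccb49762c45b4b296f2f05a0b895f2d8590ba16e2ce5e4b51612e40f81e83c0500941582d05e0b81a8340660981602906e0d81c0310720a81803b04e0c81d024182350650c41ae3345f0d118e324690c0198354618c619e2f4658c21a6338628d61902fc680050060100400600e00800001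
private theorem e02 : ∀ i : Fin 378, lk t02 i = (wd x02 i : ℕ) := tb_eq (by decide +kernel)
def l02 : List Lv := (beta% delta% lq2644d723fe fun a b c d _ _ =>
 (a (d 197 c (a (b 1 0)<|c) c 160)<|
 a (d 135 (a (b 13 1)<|a (b 197 0)<|c) (a (b 1 0)<|c) c 27)<|
 a (d 374 (a (b 135 1)<|a (b 132 0)<|a (b 13 0)<|a (b 197 0)<|c) (a (b 1 0)<|c) c 8)<|
 a (d 322 (a (b 197 1)<|a (b 135 1)<|a (b 374 1)<|a (b 13 0)<|c) (a (b 1 0)<|c) c 3)<|
 a (d 361 (a (b 13 1)<|a (b 135 1)<|a (b 374 1)<|a (b 229 1)<|c) (a (b 1 0)<|c) c 2)<|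
 a (d 306 (a (b 13 1)<|a (b 135 1)<|a (b 229 1)<|c) (a (b 1 1)<|c) c 2)<|
 a (d 143 (a (b 197 1)<|a (b 80 1)<|a (b 361 1)<|a (b 229 1)<|a (b 306 0)<|c) (a (b 1 1)<|c) c 1)<|
 a (d 140 (a (b 374 1)<|a (b 229 1)<|a (b 157 1)<|a (b 306 0)<|a (b 13 0)<|c) (a (b 1 1)<|c) c 1)<|
 a (d 216 (a (b 132 1)<|a (b 374 1)<|a (b 158 1)<|a (b 229 1)<|a (b 81 1)<|c) c c 1)<|
 a (d 26 (a (b 197 1)<|a (b 135 1)<|a (b 361 1)<|a (b 374 0)<|a (b 306 1)<|c) (a (b 1 1)<|c) c 1)<|
 a (d 272 (a (b 13 1)<|a (b 361 1)<|a (b 157 1)<|a (b 140 1)<|a (b 135 0)<|c) c c 1)<|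
 a (d 290 (a (b 197 1)<|a (b 80 1)<|a (b 143 1)<|a (b 306 1)<|a (b 158 1)<|c) c c 1)<|c))
theorem b02 : Nat.card ↥(centralizer ({w2 x02} : Set ↥M2)) ≤ 414720 :=
  (bndT e02 (l := l02) (m := 2) (by (first | (rewrite [Cfsg.Agent.KOf078396.e17, Cfsg.Agent.KOf078396.e18, Cfsg.Agent.KOf078396.e19]; decide +kernel) | decide +kernel))).trans (by decide)
theorem o02 : orderOf (wd x02) = 2 := orderOf_eq (pv_pt e02) (ps := [2]) (by norm_num) (by norm_num)
  (by decide +kernel) (by norm_num)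
theorem f02 : fixN (wd x02) = 38 := by
  rw [← pow_one (wd x02), fixN_pow (pv_pt e02)]
  decide +kernel
theorem g02 : fixN (wd x02 ^ 2) = 378 := by
  rw [fixN_pow (pv_pt e02)]
  decide +kernel
theorem a02 : adjN R (wd x02) = 180 := by
  rw [adjN_val (f := lk t02) e02]
  decide +kernel

def x03 : List ℕ := [6]
private def t03 : ℕ := nat_lit 0x211082ee434ba8452e60fc830f60985b82716c1f25a87984a1fe154b29040ae5887e8532be17cae924250188ac958240170aa867226458a886b0c6440a686f2964703994823a1b8a291804a0a0158f21e03c49e93c2760c01883226e4d89a8df1b2370988e306c4b8708372563881c15b24e1802e95c2464882d1570e4478a394a0e24688c9440da548349142a61a08894e0c8438bb04621610c8497820e5c420164206160808562ce144b08fc0a03e8b584b1ee5c0248f42d25009f13f04c0b0148ec1d63a8748e81ce0e41d83a2604a8968e02680b46e93205e3689982e1ae0305c0d401e2ec6880916a338528171962a00d0c8144050578201862c8118c01580745e8bc1a40405c8d501a2d86780a0423085881e18a2b80d8bf156064548ca02c2986681314631c508a013e2784e89c1362684c8850fe208470881161f03b07911e2540308c1260204489400e2184c0031062580288012e0103e8920001e8480020ee2440087429247c8d8702985188b86c2a01a88a9122a81983290f29e568309262bc178929560b64842c9022c6400b30542c01487f0fb09e5b42696f1f05a07a84808e430ba0442145e4209052e40f81e83c1ca390731292584bc1a8340664e09c93a1b63606f0ee2820a87694204e3bca1824182088598c403e2c05f01c15a3245501819829c0a8c6148048088ba1a60385b8d60162d06808a10e2344087e1081e03a87b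
private theorem e03 : ∀ i : Fin 378, lk t03 i = (wd x03 i : ℕ) := tb_eq (by decide +kernel)
def l03 : List Lv := (beta% delta% lq2644d723fe fun a b c d _ _ =>
 (a (d 286 c (a (b 1 2)<|c) c 126)<|
 a (d 137 (a (b 286 1)<|c) (a (b 1 2)<|c) c 45)<|
 a (d 215 (a (b 286 1)<|a (b 137 1)<|c) (a (b 1 2)<|c) c 12)<|
 a (d 357 (a (b 286 1)<|a (b 137 1)<|a (b 215 1)<|c) (a (b 1 2)<|c) c 3)<|
 a (d 115 (a (b 286 1)<|a (b 137 1)<|a (b 215 0)<|a (b 357 0)<|c) (a (b 1 1)<|c) c 4)<|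
 a (d 256 (a (b 137 1)<|a (b 357 1)<|a (b 329 1)<|a (b 286 0)<|c) c c 2)<|
 a (d 140 (a (b 286 0)<|a (b 137 0)<|a (b 215 0)<|a (b 357 0)<|a (b 115 0)<|a (b 256 0)<|c) (a (b 1 2)<|c) c 2)<|
 a (d 201 (a (b 357 1)<|a (b 115 1)<|a (b 256 1)<|a (b 140 1)<|c) (a (b 1 1)<|c) c 4)<|
 a (d 246 (a (b 86 1)<|a (b 26 1)<|a (b 357 0)<|a (b 286 0)<|a (b 215 0)<|a (b 115 0)<|a (b 137 0)<|c) c c 2)<|
 a (d 143 (a (b 246 1)<|a (b 286 0)<|a (b 137 0)<|a (b 215 0)<|a (b 357 0)<|a (b 256 0)<|c) (a (b 1 2)<|c) c 1)<|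
 a (d 216 (a (b 329 1)<|a (b 256 1)<|a (b 201 1)<|a (b 246 1)<|a (b 137 0)<|c) c c 1)<|
 a (d 272 (a (b 215 1)<|a (b 357 1)<|a (b 86 1)<|a (b 137 0)<|a (b 140 1)<|c) c c 1)<|
 a (d 290 (a (b 286 1)<|a (b 246 1)<|a (b 115 0)<|a (b 140 0)<|a (b 357 0)<|c) (a (b 1 2)<|c) c 1)<|c))
theorem b03 : Nat.card ↥(centralizer ({w2 x03} : Set ↥M2)) ≤ 26127360 :=
  (bndT e03 (l := l03) (m := 2) (by (first | (rewrite [Cfsg.Agent.KOf078396.e17, Cfsg.Agent.KOf078396.e18, Cfsg.Agent.KOf078396.e19]; decide +kernel) | decide +kernel))).trans (by decide)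
theorem o03 : orderOf (wd x03) = 2 := orderOf_eq (pv_pt e03) (ps := [2]) (by norm_num) (by norm_num)
  (by decide +kernel) (by norm_num)
theorem f03 : fixN (wd x03) = 126 := by
  rw [← pow_one (wd x03), fixN_pow (pv_pt e03)]
  decide +kernel
theorem g03 : fixN (wd x03 ^ 2) = 378 := by
  rw [fixN_pow (pv_pt e03)]
  decide +kernel
theorem a03 : adjN R (wd x03) = 252 := by
  rw [adjN_val (f := lk t03) e03]
  decide +kernel

def x04 : List ℕ := (beta% delta% lq2644d723fe fun a _ c _ _ _ =>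
 (a 4<|a 3<|a 2<|a 6<|a 1<|a 5<|a 0<|a 4<|a 3<|a 2<|a 6<|a 1<|a 5<|a 0<|a 4<|a 3<|a 2<|a 6<|a 1<|a 5<|a 0<|c))
private def t04 : ℕ := nat_lit 0x9911b08a0506b0882b00f07b8290ca15cb214d2843104d8af152034420722184d8b412206e304560a105418c2c1151d63fc720622d205c3f8d021a530168e22ae12019179234234080a621610cb884c1f25a84a8830022480208c2ac4982f06e238520b30252223f89d8640b23c0a90661d8588a88fc04e2800e0c310e3285b0470601b47c1271c20bcb991710a038540e52ba12c2f83e09222c658b42925dc9a0381f65708c84426e33c4081603a2645690128219c890262ca00040093242184af1182961cc7913c0562b80d8c20d05388a0a701e23c648d700a0485a8911a40643c1740e23709184f25c3748411f0f22dc6712c2b25c08213e0d4554768561662701012b2b65bc6c90a23c1d45c8cd13a2f40f8ee2c21ac9f90f0aa3d02e12f14402c3e14607e380811600a82c45f81e2a6438348332703601c8e72540184b0770fa02452097170060040d41984c02d8f31d05682703a24a5b86f04028a4e48486f06a5d88e8e30ba5b40988a1aa414a38311cc4807d07405c1085d0c810408c5809f29e14c751672260905e0c70fc1341b06026a5c8a502c2a03f460022134458a18512661b08303d2d64a0470a502258c800520503c49e8c50422ac4808900641c231780943d8b60151282ec630021a22a84300c2a8500af8b213c2f8818ef220368ba870252490280761a60685187b0143d49885a28837c208341b64e80387a1300ec968e9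
private noncomputable def _root_.Cfsg.Agent.KOf078396.k20 : (by first | exact type_of% @Cfsg.Agent.SporadicA.PermTab.allB | exact Unit : Sort _) := by first | (refine @Subtype.val _ (fun g => @Cfsg.Agent.SporadicA.PermTab.allB = @g) (@Subtype.mk _ _ (@(fun x0 x1 => @Nat.rec.{1} @(fun x2 => @Bool) @Bool.true @(fun x2 x3 => @Bool.rec.{1} @(fun x4 => @Bool) @Bool.false @x3 (@x0 @x2)) @x1)) ?_); rfl') | exact @Cfsg.Agent.SporadicA.PermTab.allB | exact ()
private theorem _root_.Cfsg.Agent.KOf078396.e20 : (by first | exact @Cfsg.Agent.SporadicA.PermTab.allB = @_root_.Cfsg.Agent.KOf078396.k20 | exact True : Prop) := by first | (delta _root_.Cfsg.Agent.KOf078396.k20; exact @Subtype.property _ (fun g => @Cfsg.Agent.SporadicA.PermTab.allB = @g) _) | rfl | trivial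
private noncomputable def _root_.Cfsg.Agent.KOf078396.k21 : (by first | exact type_of% @Cfsg.Agent.SporadicA.PermTab.lk | exact Unit : Sort _) := by first | (refine @Subtype.val _ (fun g => @Cfsg.Agent.SporadicA.PermTab.lk = @g) (@Subtype.mk _ _ (@(fun x0 x1 => @Nat.land (@Nat.shiftRight @x0 (@Nat.mul (nat_lit 11) @x1)) (nat_lit 2047))) ?_); rfl') | exact @Cfsg.Agent.SporadicA.PermTab.lk | exact ()
private theorem _root_.Cfsg.Agent.KOf078396.e21 : (by first | exact @Cfsg.Agent.SporadicA.PermTab.lk = @_root_.Cfsg.Agent.KOf078396.k21 | exact True : Prop) := by first | (delta _root_.Cfsg.Agent.KOf078396.k21; exact @Subtype.property _ (fun g => @Cfsg.Agent.SporadicA.PermTab.lk = @g) _) | rfl | trivial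
private noncomputable def _root_.Cfsg.Agent.KOf078396.k23.{ku0} : type_of% @List.get?Internal.{ku0} := @(fun x0 x1 x2 => @List.rec.{(ku0+1), ku0} @x0 @(fun x3 => ℕ → @Option.{ku0} @x0) @(fun x3 => @Option.none.{ku0} _) @(fun x3 x4 x5 x6 => @Nat.rec.{(ku0+1)} @(fun x7 => @Option.{ku0} @x0) (@Option.some.{ku0} _ @x3) @(fun x7 x8 => @x5 @x7) @x6) @x1 @x2)
private theorem _root_.Cfsg.Agent.KOf078396.e23.{ku0} : @List.get?Internal.{ku0} = @_root_.Cfsg.Agent.KOf078396.k23.{ku0} := by delta _root_.Cfsg.Agent.KOf078396.k23; funext a0 a1 a2; refine (congrFun (_root_.Cfsg.Agent.KOf078396.e0 (fun a1 a2 => @List.get?Internal.{ku0} a0 a1 a2) ?_ (fun c0 c1 => ?_) a1) a2 :) <;> [(funext b0; (rfl')); (funext b0; (cases b0 with | @zero  => (rfl') | @succ b0_0 => (rfl')))]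
private noncomputable def _root_.Cfsg.Agent.KOf078396.k24 : (by first | exact type_of% @Cfsg.Agent.H235.QS.O7M.act | exact Unit : Sort _) := by first | (refine @Subtype.val _ (fun g => @Cfsg.Agent.H235.QS.O7M.act = @g) (@Subtype.mk _ _ (@(fun x0 x1 => @Cfsg.Agent.KOf078396.k9.{0, 0} _ _ @(fun x2 x3 => @Cfsg.Agent.KOf078396.k21 (@Option.rec.{1, 0} ℕ @(fun x4 => ℕ) (nat_lit 0) @(fun x4 => @x4) (@Cfsg.Agent.KOf078396.k23.{0} _ @Cfsg.Agent.H235.QS.O7M.tbl (@Nat.mod @x2 (nat_lit 8)))) @x3) @x1 @x0)) ?_); rewrite [← Cfsg.Agent.KOf078396.e23.{0}, ← Cfsg.Agent.KOf078396.e21, ← Cfsg.Agent.KOf078396.e9.{0, 0}]; (try delta Cfsg.Agent.H235.QS.O7M.act Cfsg.Agent.H235.QS.O7M.tb); (try generalize @Cfsg.Agent.SporadicA.PermTab.lk = g0); (try generalize @Cfsg.Agent.H235.QS.O7M.tbl = g1); rfl') | exact @Cfsg.Agent.H235.QS.O7M.act | exact ()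
private theorem _root_.Cfsg.Agent.KOf078396.e24 : (by first | exact @Cfsg.Agent.H235.QS.O7M.act = @_root_.Cfsg.Agent.KOf078396.k24 | exact True : Prop) := by first | (delta _root_.Cfsg.Agent.KOf078396.k24; exact @Subtype.property _ (fun g => @Cfsg.Agent.H235.QS.O7M.act = @g) _) | rfl | trivial

private theorem e04 : ∀ i : Fin 378, lk t04 i = (wd x04 i : ℕ) := tb_eq (by (first | (rewrite [Cfsg.Agent.KOf078396.e20, Cfsg.Agent.KOf078396.e21, Cfsg.Agent.KOf078396.e24]; decide +kernel) | decide +kernel))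
def l04 : List Lv := (beta% delta% lq2644d723fe fun a b c d e g =>
 (a (d 174 (a (b 51 1)<|a (b 3 0)<|a (b 152 0)<|c) c (a (g (a (b 51 1)<|a (b 3 0)<|a (b 152 0)<|c) c (let f:=(let f:=(let f:=(let f:=(e 14<|e 2<|e 1<|e 0<|c);
 (e 36<|e 34<|e 27<|e 22<|f));
 (e 91<|e 87<|e 80<|e 66<|e 64<|e 42<|e 39<|f));
 (let f:=(e 147<|e 134<|e 131<|e 128<|e 114<|e 112<|e 100<|f);
 (e 173<|e 169<|e 161<|e 160<|e 159<|e 149<|e 148<|f)));
 (let f:=(let f:=(e 217<|e 208<|e 199<|e 196<|e 194<|e 186<|e 174<|f);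
 (e 273<|e 269<|e 265<|e 253<|e 244<|e 223<|e 220<|f));
 (let f:=(e 326<|e 305<|e 302<|e 299<|e 293<|e 287<|e 281<|f);
 (a 374<|a 371<|a 368<|a 357<|a 346<|a 338<|a 330<|f)))) 18)<|c) 24)<|
 a (d 195 (a (b 3 1)<|a (b 152 1)<|a (b 107 1)<|a (b 51 0)<|a (b 174 0)<|c) c c 3)<|
 a (d 143 (a (b 174 1)<|a (b 230 1)<|a (b 195 1)<|a (b 3 0)<|a (b 51 0)<|a (b 106 0)<|c) c c 1)<|
 a (d 140 (a (b 230 1)<|a (b 107 1)<|a (b 106 1)<|a (b 152 0)<|a (b 174 0)<|a (b 288 0)<|a (b 143 0)<|c) c c 1)<|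
 a (d 216 (a (b 174 1)<|a (b 230 1)<|a (b 3 0)<|a (b 288 0)<|a (b 125 0)<|a (b 222 0)<|a (b 312 0)<|a (b 106 0)<|c) c c 1)<|
 a (d 26 (a (b 3 1)<|a (b 51 1)<|a (b 140 1)<|a (b 106 1)<|a (b 151 1)<|c) c c 1)<|
 a (d 272 (a (b 3 1)<|a (b 230 1)<|a (b 125 1)<|a (b 288 1)<|a (b 222 1)<|c) c c 1)<|
 a (d 290 (a (b 152 1)<|a (b 174 1)<|a (b 222 1)<|a (b 230 1)<|a (b 143 1)<|c) c c 1)<|c))
private noncomputable def _root_.Cfsg.Agent.KOf078396.k25 : (by first | exact type_of% @Cfsg.Agent.H235.QS.O7M.cn3 | exact Unit : Sort _) := by first | (refine @Subtype.val _ (fun g => @Cfsg.Agent.H235.QS.O7M.cn3 = @g) (@Subtype.mk _ _ (@(fun x0 x1 => @Cfsg.Agent.KOf078396.k8 (nat_lit 378) @(fun x2 => @Bool.rec.{1} @(fun x3 => @Bool) @Bool.false (@Bool.rec.{1} @(fun x3 => @Bool) @Bool.false (@Nat.beq (@Cfsg.Agent.KOf078396.k18 (@Nat.rec.{1} @(fun x3 => ℕ) @x1 @(fun x3 x4 => @Cfsg.Agent.KOf078396.k9.{0, 0} _ _ @(fun x5 x6 => @Cfsg.Agent.KOf078396.k21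 (@Option.rec.{1, 0} ℕ @(fun x7 => ℕ) (nat_lit 0) @(fun x7 => @x7) (@Cfsg.Agent.KOf078396.k23.{0} _ @Cfsg.Agent.H235.QS.O7M.tbl (@Nat.mod @x5 (nat_lit 8)))) @x6) @x4 @x0) (nat_lit 2)) @x2) (nat_lit 1)) (@Nat.beq (@Cfsg.Agent.KOf078396.k18 (@Nat.rec.{1} @(fun x3 => ℕ) @x1 @(fun x3 x4 => @Cfsg.Agent.KOf078396.k9.{0, 0} _ _ @(fun x5 x6 => @Cfsg.Agent.KOf078396.k21 (@Option.rec.{1, 0} ℕ @(fun x7 => ℕ) (nat_lit 0) @(fun x7 => @x7) (@Cfsg.Agent.KOf078396.k23.{0} _ @Cfsg.Agent.H235.QS.O7M.tbl (@Nat.mod @x5 (nat_lit 8)))) @x6) @x4 @x0) (nat_lit 1)) @x2) (nat_lit 1))) (@Nat.beq (@Cfsg.Agent.KOf078396.k18 @x1 @x2) (nat_lit 1))))) ?_); rewrite [← Cfsg.Agent.KOf078396.e23.{0}, ← Cfsg.Agent.KOf078396.e21, ← Cfsg.Agent.KOf078396.e9.{0, 0}, ← Cfsg.Agent.KOf078396.e18, ← Cfsg.Agent.KOf078396.e8]; (try delta Cfsg.Agent.H235.QS.O7M.cn3 Cfsg.Agent.H235.QS.O7M.pw Cfsg.Agent.H235.QS.O7M.act Cfsg.Agent.H235.QS.O7M.tb); (try generalize @Cfsg.Agent.H235.Ore.Eng.cnt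 = g0); (try generalize @Cfsg.Agent.H235.QS.O7M.R = g1); (try generalize @Cfsg.Agent.SporadicA.PermTab.lk = g2); (try generalize @Cfsg.Agent.H235.QS.O7M.tbl = g3); rfl') | exact @Cfsg.Agent.H235.QS.O7M.cn3 | exact ()
private theorem _root_.Cfsg.Agent.KOf078396.e25 : (by first | exact @Cfsg.Agent.H235.QS.O7M.cn3 = @_root_.Cfsg.Agent.KOf078396.k25 | exact True : Prop) := by first | (delta _root_.Cfsg.Agent.KOf078396.k25; exact @Subtype.property _ (fun g => @Cfsg.Agent.H235.QS.O7M.cn3 = @g) _) | rfl | trivial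
private noncomputable def _root_.Cfsg.Agent.KOf078396.k26 : (by first | exact type_of% @Cfsg.Agent.H235.QS.O7M.pw | exact Unit : Sort _) := by first | (refine @Subtype.val _ (fun g => @Cfsg.Agent.H235.QS.O7M.pw = @g) (@Subtype.mk _ _ (@(fun x0 x1 x2 => @Nat.rec.{1} @(fun x3 => ℕ) @x2 @(fun x3 x4 => @Cfsg.Agent.KOf078396.k9.{0, 0} _ _ @(fun x5 x6 => @Cfsg.Agent.KOf078396.k21 (@Option.rec.{1, 0} ℕ @(fun x7 => ℕ) (nat_lit 0) @(fun x7 => @x7) (@Cfsg.Agent.KOf078396.k23.{0} _ @Cfsg.Agent.H235.QS.O7M.tbl (@Nat.mod @x5 (nat_lit 8)))) @x6) @x4 @x0) @x1)) ?_); rewrite [← Cfsg.Agent.KOf078396.e23.{0}, ← Cfsg.Agent.KOf078396.e21, ← Cfsg.Agent.KOf078396.e9.{0, 0}]; (try delta Cfsg.Agent.H235.QS.O7M.pw Cfsg.Agent.H235.QS.O7M.act Cfsg.Agent.H235.QS.O7M.tb); (try generalize @Cfsg.Agent.SporadicA.PermTab.lk = g0); (try generalize @Cfsg.Agent.H235.QS.O7M.tbl = g1); rfl') | exact @Cfsg.Agent.H235.QS.O7M.pw | exact ()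
private theorem _root_.Cfsg.Agent.KOf078396.e26 : (by first | exact @Cfsg.Agent.H235.QS.O7M.pw = @_root_.Cfsg.Agent.KOf078396.k26 | exact True : Prop) := by first | (delta _root_.Cfsg.Agent.KOf078396.k26; exact @Subtype.property _ (fun g => @Cfsg.Agent.H235.QS.O7M.pw = @g) _) | rfl | trivial

theorem b04 : Nat.card ↥(centralizer ({w2 x04} : Set ↥M2)) ≤ 17496 :=
  (bnd3 (X := x04) (l := l04) (m := 3) (p := 3) (a := 243) (v := 12) (by norm_num) (by (first | (rewrite [Cfsg.Agent.KOf078396.e8, Cfsg.Agent.KOf078396.e25]; decide +kernel) | decide +kernel))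
  (by decide +kernel) (by (first | (rewrite [Cfsg.Agent.KOf078396.e17, Cfsg.Agent.KOf078396.e18, Cfsg.Agent.KOf078396.e26, Cfsg.Agent.KOf078396.e7]; decide +kernel) | decide +kernel))).trans (by decide)
theorem o04 : orderOf (wd x04) = 3 := orderOf_eq (pv_pt e04) (ps := [3]) (by norm_num) (by norm_num)
  (by decide +kernel) (by norm_num)
theorem f04 : fixN (wd x04) = 0 := by
  rw [← pow_one (wd x04), fixN_pow (pv_pt e04)]
  decide +kernel
theorem g04 : fixN (wd x04 ^ 2) = 0 := by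
  rw [fixN_pow (pv_pt e04)]
  decide +kernel
theorem a04 : adjN R (wd x04) = 0 := by
  rw [adjN_val (f := lk t04) e04]
  decide +kernel

def x05 : List ℕ := [4, 6, 7, 3]
private def t05 : ℕ := nat_lit 0x381152ac064628b609c594831260cc518518d504215c7997723e178a78101563347e96e08a2c8060c82aa1888c1020885a0100a81a252c9006b2e41507d8bb02e2f4399102ba5808604d1be3646e12c25e4a43b87a0fa38c708e204e0901509712c2604c88b00e26844008136238031122b41b05c813184128b11080ca5249281b14c348298f62ea46c2d9500142b8650ff2d80fc658af0121708e151200104b68d403a294920632905d0290f81700506006e226564b190a0900e01b0371dc3b47788610020c9a93726c394720e612a2504989e10a0004e0820022743f8022bc1d0878bf1780582615f21a5309086a19e078548551f25cc8b8612a8034588c72085a82100f19c2b08e94d0be3f82396f14435c1186728a4a0bc8591ea2d40d0c30de458ac16620a13c9e13b27a0cc1a83411823c448280560949d1382722404909125c0c47812b0643c4988301e40f0a18de07c5046d83d2843605007600a2843e00313e1e40205d23c538660ad0223f0231702281c4ab8c40302d0b385020e49c341440442906b0f42f01605d01517c438ae0720965848580e1663183015323210c8196915407c68069244528b88fa0ac3a8758ec0720ec1d08711a2286d0dd1c04c09512d0f01ec3a8262683a4161321d00a4998e71822dc0915b0da44424964212324058b02a44682d0402025ac5381c1a6190919472ec3dc2894027e4f81702d05e1f840884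
private theorem e05 : ∀ i : Fin 378, lk t05 i = (wd x05 i : ℕ) := tb_eq (by (first | (rewrite [Cfsg.Agent.KOf078396.e20, Cfsg.Agent.KOf078396.e21, Cfsg.Agent.KOf078396.e24]; decide +kernel) | decide +kernel))
def l05 : List Lv := (beta% delta% lq2644d723fe fun a b c d _ _ =>
 (a (d 302 c (a (b 1 1)<|c) c 162)<|
 a (d 140 (a (b 302 1)<|a (b 154 1)<|a (b 143 0)<|c) (a (b 1 1)<|c) c 2)<|
 a (d 249 (a (b 143 1)<|a (b 154 1)<|a (b 299 1)<|a (b 302 0)<|c) c c 9)<|
 a (d 111 (a (b 299 1)<|a (b 143 0)<|a (b 140 0)<|a (b 302 0)<|a (b 155 0)<|a (b 199 0)<|a (b 192 0)<|c) (a (b 1 0)<|c) c 2)<|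
 a (d 216 (a (b 192 1)<|a (b 167 1)<|a (b 302 0)<|a (b 111 0)<|a (b 17 0)<|a (b 154 0)<|c) (a (b 1 1)<|c) c 1)<|
 a (d 26 (a (b 140 1)<|a (b 155 1)<|a (b 126 1)<|a (b 249 0)<|a (b 17 0)<|c) (a (b 1 1)<|c) c 1)<|
 a (d 272 (a (b 140 1)<|a (b 249 1)<|a (b 2 1)<|a (b 199 1)<|a (b 167 1)<|c) c c 1)<|
 a (d 290 (a (b 143 1)<|a (b 154 1)<|a (b 167 1)<|a (b 302 0)<|a (b 249 0)<|a (b 272 0)<|c) c c 1)<|c))
theorem b05 : Nat.card ↥(centralizer ({w2 x05} : Set ↥M2)) ≤ 5832 :=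
  (bndT e05 (l := l05) (m := 3) (by (first | (rewrite [Cfsg.Agent.KOf078396.e17, Cfsg.Agent.KOf078396.e18, Cfsg.Agent.KOf078396.e19]; decide +kernel) | decide +kernel))).trans (by decide)
theorem o05 : orderOf (wd x05) = 3 := orderOf_eq (pv_pt e05) (ps := [3]) (by norm_num) (by norm_num)
  (by decide +kernel) (by norm_num)
theorem f05 : fixN (wd x05) = 0 := by
  rw [← pow_one (wd x05), fixN_pow (pv_pt e05)]
  decide +kernel
theorem g05 : fixN (wd x05 ^ 2) = 0 := by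
  rw [fixN_pow (pv_pt e05)]
  decide +kernel
theorem a05 : adjN R (wd x05) = 162 := by
  rw [adjN_val (f := lk t05) e05]
  decide +kernel

def x06 : List ℕ := [0, 4, 6, 7, 5, 1]
private def t06 : ℕ := nat_lit 0xb61682e05bcb596a2d25b8b69602c459caf9642cc584b19652e45d4bc1792e65d8ba1772e24849412324e494901242444988b10f2224508811222a4388991723a4688d91823c47c8e1190720e81d83606e0e01e03d07c0a41602604e0a8120280560941a83205e0cc1802d0680c4170620ba16c3085f0b41802f05c0d81c43986f0e81b43906e0e01ac328680ce1a8320630cc1a47b8f91ea3d87d8f41f03e87990920a4348610820e4188590a2083f8808ff2043f07e9002064a49612f2544b49812b25c4c49b13726a4cc9a1322724e89c13d2865009d94127c4f0a113f15a2b8590b01622b0598ab15e2d05d8b916e2d45e0ba1702d8540a6148288548a714a28c55023038078100220360740f82102c0480d01303005c0c8150280340780b014030088100120384e09e13a2644d89a13e2845009812e2584a8941262484889010622c3c0801101d44308e0f61e84108a0ee1fc4387d10a234460791022243b07e11e1f042149296510a394c28a520a51462aa540a715229a550a79532a2574ad1572b0578ad9592ac570210470801102303f086114208590aa144298580a81582905709813c2484a09a140270480963746d0e01b83646f8db1b0378750ec1d63b4778ee1e03c8788e31cc3a4710e51d0384720e719231c670cc194320630cd19634c6b8cf1ac344690d01a83545f8c31823085e8c418a3005f0000040040300800e00c02804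
private theorem e06 : ∀ i : Fin 378, lk t06 i = (wd x06 i : ℕ) := tb_eq (by (first | (rewrite [Cfsg.Agent.KOf078396.e20, Cfsg.Agent.KOf078396.e21, Cfsg.Agent.KOf078396.e24]; decide +kernel) | decide +kernel))
def l06 : List Lv := (beta% delta% lq2644d723fe fun a b c d _ _ =>
 (a (d 219 c (a (b 1 1)<|c) c 81)<|
 a (d 319 (a (b 219 1)<|a (b 56 1)<|a (b 318 0)<|c) (a (b 1 1)<|c) c 2)<|
 a (d 343 (a (b 219 1)<|a (b 56 0)<|a (b 55 0)<|a (b 216 0)<|a (b 318 0)<|a (b 319 0)<|c) c c 9)<|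
 a (d 377 (a (b 219 1)<|a (b 319 1)<|a (b 96 1)<|a (b 290 1)<|c) (a (b 1 0)<|c) c 2)<|
 a (d 143 (a (b 56 1)<|a (b 55 1)<|a (b 343 1)<|a (b 290 1)<|a (b 364 1)<|c) c c 1)<|
 a (d 140 (a (b 56 1)<|a (b 55 1)<|a (b 377 1)<|a (b 343 0)<|a (b 290 0)<|c) (a (b 1 0)<|c) c 1)<|
 a (d 26 (a (b 219 1)<|a (b 55 1)<|a (b 343 1)<|a (b 356 1)<|a (b 377 0)<|c) c c 1)<|
 a (d 272 (a (b 319 1)<|a (b 55 1)<|a (b 140 1)<|a (b 125 1)<|a (b 211 1)<|c) c c 1)<|c))
theorem b06 : Nat.card ↥(centralizer ({w2 x06} : Set ↥M2)) ≤ 2916 :=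
  (bndT e06 (l := l06) (m := 3) (by (first | (rewrite [Cfsg.Agent.KOf078396.e17, Cfsg.Agent.KOf078396.e18, Cfsg.Agent.KOf078396.e19]; decide +kernel) | decide +kernel))).trans (by decide)
theorem o06 : orderOf (wd x06) = 3 := orderOf_eq (pv_pt e06) (ps := [3]) (by norm_num) (by norm_num)
  (by decide +kernel) (by norm_num)
theorem f06 : fixN (wd x06) = 9 := by
  rw [← pow_one (wd x06), fixN_pow (pv_pt e06)]
  decide +kernel
theorem g06 : fixN (wd x06 ^ 2) = 9 := by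
  rw [fixN_pow (pv_pt e06)]
  decide +kernel
theorem a06 : adjN R (wd x06) = 81 := by
  rw [adjN_val (f := lk t06) e06]
  decide +kernel

def x07 : List ℕ := [0, 1, 7, 6]
private def t07 : ℕ := nat_lit 0x2a8540ac1642c0570a214c2904408410c2284608e1002083f09a1302584f09c1402404a0924448911322c4508a90f2204388d91a2384748f91e2324608b92324a4909392625048890920286508a093f27c5009d93d2784e49c13a26e4d89a9322684cc971302524ac9692f2624a89606a0d61a4340660ce18c320650c01883085e0ba17c2e05b0b41d0390730e01c43786c0da1b8b21622c6594b31672c0584af96b2da5b0b796e2e05a8b49682ea5d0bb1772f25e0b99722e23c4780f21de3b8768ea1d83ac748e81ce394720e61c238c710dd1be3606d0dc1bc3806c8db03c0800f8210460880d81d0380340700c0200440780a0160240a81702c0600d019024050098c1184300620c51862f85f8bd196328648ce19a330640c718c350698d21ae3586a8d11a033c4f8a11402704f09d13226c4d09613025c4989512824049091118238438891162344788811420c4287e100208420860fe2043d07c0ea1dc3c87b0fa1d83c15b2b4564ae95c2bc558ac15729251ca414b298528a214528c540a91512a854caa94f29c5347c8fb1f43e07b8f61e83cc7a90c21a42c8410921441c82906208408818ff2004047e8fe1f80f41e03e0760e81c8360700dc198350680c81883005c0b4178260500a81602504e0a4158241522a0550a614a29c518a21482f05d0bb1722dc5c0b61682d4590b31622bc580ae1582b45580700c0200200300a00400002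
private theorem e07 : ∀ i : Fin 378, lk t07 i = (wd x07 i : ℕ) := tb_eq (by (first | (rewrite [Cfsg.Agent.KOf078396.e20, Cfsg.Agent.KOf078396.e21, Cfsg.Agent.KOf078396.e24]; decide +kernel) | decide +kernel))
def l07 : List Lv := (beta% delta% lq2644d723fe fun a b c d _ _ =>
 (a (d 127 c (a (b 1 2)<|c) c 36)<|
 a (d 217 (a (b 127 1)<|c) (a (b 1 2)<|c) c 9)<|
 a (d 58 (a (b 127 1)<|a (b 217 1)<|c) (a (b 1 2)<|c) c 6)<|
 a (d 273 (a (b 127 1)<|a (b 217 1)<|a (b 58 0)<|c) (a (b 1 0)<|c) c 18)<|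
 a (d 175 (a (b 127 1)<|a (b 58 1)<|a (b 273 1)<|a (b 217 0)<|c) c c 2)<|
 a (d 26 (a (b 217 1)<|a (b 350 1)<|a (b 127 0)<|a (b 175 0)<|a (b 205 0)<|a (b 58 0)<|a (b 273 0)<|a (b 111 0)<|c) c c 2)<|
 a (d 342 (a (b 127 1)<|a (b 58 1)<|a (b 193 1)<|a (b 175 1)<|a (b 205 1)<|c) (a (b 1 0)<|c) c 2)<|
 a (d 143 (a (b 58 1)<|a (b 350 1)<|a (b 175 1)<|a (b 111 0)<|a (b 193 1)<|a (b 342 1)<|c) c c 1)<|
 a (d 216 (a (b 127 1)<|a (b 273 1)<|a (b 110 1)<|a (b 193 1)<|a (b 217 0)<|a (b 26 0)<|c) c c 1)<|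
 a (d 272 (a (b 127 1)<|a (b 350 1)<|a (b 342 1)<|a (b 14 1)<|a (b 217 0)<|c) c c 1)<|
 a (d 290 (a (b 273 1)<|a (b 350 1)<|a (b 342 1)<|a (b 175 1)<|a (b 193 1)<|c) c c 1)<|c))
theorem b07 : Nat.card ↥(centralizer ({w2 x07} : Set ↥M2)) ≤ 279936 :=
  (bndT e07 (l := l07) (m := 3) (by (first | (rewrite [Cfsg.Agent.KOf078396.e17, Cfsg.Agent.KOf078396.e18, Cfsg.Agent.KOf078396.e19]; decide +kernel) | decide +kernel))).trans (by decide)
theorem o07 : orderOf (wd x07) = 3 := orderOf_eq (pv_pt e07) (ps := [3]) (by norm_num) (by norm_num)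
  (by decide +kernel) (by norm_num)
theorem f07 : fixN (wd x07) = 36 := by
  rw [← pow_one (wd x07), fixN_pow (pv_pt e07)]
  decide +kernel
theorem g07 : fixN (wd x07 ^ 2) = 36 := by
  rw [fixN_pow (pv_pt e07)]
  decide +kernel
theorem a07 : adjN R (wd x07) = 0 := by
  rw [adjN_val (f := lk t07) e07]
  decide +kernel

def x08 : List ℕ := [4, 5]
private def t08 : ℕ := nat_lit 0x2c0530a81542c8510a41582b83f08c11020047084104228430941402684c09213c2704b0901b43a06f0e61c4360700dc1c83085a0be1882d85d0c01702f0640d419c340650d61a4330630740ec1c8370700d81e83e0780a41602604e0a8120280560941a03105c0d41902f0660c016949296510a394c28a520a514629c554a81542a4534a894f2a6568ab95d2bc56cac1562b8564b31642be59cb11602ca58cb096f2d45acb61702d05a4b696e2ec5ccbc9782ea5c8b89772e84b09792925a4c09512e2624ac9b13726a4cc9a1322724e89c13c2844fc9e9432804eca093e1a2358690d71a633c6a0d01aa320650cc19c31c648cb19a318610c417a2fc608c318a2f8600bc16a2dc5c8bb1682d85c0ba1602b0588ad164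2b8598af15629c548a2148298540aa1462944f09d13826c4d0991422804f89812e2584a8941262484889010c2383d8831161e0400880ea1f44288d0f4208450770fe21c4787c1082303c8811121d83f1142244408b11121e4548990e24a49c9012824248c9112424c46c8f11822e4688e91f2324707b8f91ea3d87d8f41f03e87990d2124148390c2104288310b2024107f0fc1fe408818fd2003806e8da1be3706c8de1b6360760eb1d43bc770ed1e43c4780e31cc3a4710e51d0384720e70460700f02004406c0e81f0420680b01202e04c0c0140320540580d01e0440500c01c040048020020000400700c01402003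
private theorem e08 : ∀ i : Fin 378, lk t08 i = (wd x08 i : ℕ) := tb_eq (by decide +kernel)
def l08 : List Lv := (beta% delta% lq2644d723fe fun a b c d _ _ =>
 (a (d 296 c (a (b 1 1)<|c) c 243)<|
 a (d 210 (a (b 104 1)<|c) (a (b 1 0)<|c) c 30)<|
 a (d 74 (a (b 296 1)<|a (b 329 1)<|a (b 210 1)<|a (b 104 0)<|c) c c 8)<|
 a (d 79 (a (b 329 1)<|a (b 213 1)<|a (b 296 0)<|a (b 104 0)<|a (b 359 0)<|a (b 74 0)<|c) (a (b 1 1)<|c) c 3)<|
 a (d 114 (a (b 104 1)<|a (b 210 1)<|a (b 359 1)<|a (b 266 1)<|a (b 79 1)<|c) c c 2)<|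
 a (d 143 (a (b 296 1)<|a (b 74 1)<|a (b 342 1)<|c) (a (b 1 0)<|c) c 1)<|
 a (d 140 (a (b 104 1)<|a (b 266 1)<|a (b 265 1)<|a (b 210 0)<|a (b 114 0)<|c) (a (b 1 0)<|c) c 1)<|
 a (d 216 (a (b 329 1)<|a (b 210 1)<|a (b 74 1)<|a (b 266 1)<|a (b 354 1)<|c) c c 1)<|
 a (d 26 (a (b 140 1)<|a (b 296 1)<|a (b 74 0)<|c) (a (b 1 2)<|c) c 1)<|
 a (d 290 (a (b 210 1)<|a (b 79 1)<|a (b 342 1)<|a (b 143 1)<|a (b 131 1)<|c) c c 1)<|c))
theorem b08 : Nat.card ↥(centralizer ({w2 x08} : Set ↥M2)) ≤ 349920 :=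
  (bndT e08 (l := l08) (m := 3) (by (first | (rewrite [Cfsg.Agent.KOf078396.e17, Cfsg.Agent.KOf078396.e18, Cfsg.Agent.KOf078396.e19]; decide +kernel) | decide +kernel))).trans (by decide)
theorem o08 : orderOf (wd x08) = 3 := orderOf_eq (pv_pt e08) (ps := [3]) (by norm_num) (by norm_num)
  (by decide +kernel) (by norm_num)
theorem f08 : fixN (wd x08) = 45 := by
  rw [← pow_one (wd x08), fixN_pow (pv_pt e08)]
  decide +kernel
theorem g08 : fixN (wd x08 ^ 2) = 45 := by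
  rw [fixN_pow (pv_pt e08)]
  decide +kernel
theorem a08 : adjN R (wd x08) = 243 := by
  rw [adjN_val (f := lk t08) e08]
  decide +kernel

def x09 : List ℕ := (beta% delta% lq2644d723fe fun a _ c _ _ _ =>
 (a 0<|a 7<|a 1<|a 2<|a 3<|a 6<|a 0<|a 7<|a 1<|a 2<|a 3<|a 6<|a 0<|a 7<|a 1<|a 2<|a 3<|a 6<|a 0<|a 7<|a 1<|a 2<|a 3<|a 6<|c))
private def t09 : ℕ := nat_lit 0xbc9230562880e0920ce3dc9c08320e5b8b6875218420b488e2ce4c00709a23e1cc800b9070578648db17e5487884c08000c1f8ec2ac0085f0c80905386e0541c2354748d00b0350298e52860b44787627e0d4188812763e0910212ea290358932660a8b280c25e2e87e0390dc46c4f1361f61a4929770522944c0220781d00592e1784685015f2021888a87a2262142d8870ba438b607d216428b408a0fe418b811d07c590078a116e3f89586d0365d09a86612c480130f4154544228c61de018700c209a55c6785928e5306b8510aa514698082ba53c7704a1963686204328838c29056296390740572923ac601552b83286f8460021386c042186550ac00409e3c86392a1764703881006c40c4c9621662000b81815e22c3d813156094548f52e608c9c9281221a8b08701700ec9609c23c4080506814c5c89909404e3e80e92605e424581420345a84490f0be4442d08420a2c4180162de4f4b593e0241843c9161580d08689b168024b011906e3f49686c1f25d84812114e4e80f0640501e08a0602201784405c10c448688e72905186b0e61c4528690472b63c0670c100a534248de000540ac84418a364258ea1982d8391632520e84e9180223fc3e1400660c83f13c2820b846065248254bc01f2682a07982412e3d8b88200c60b05193724e2b80c88d1042c80a8140ee2b43789f22e4c4069662082d41e8ed00e374208cd2a65685e850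
private theorem e09 : ∀ i : Fin 378, lk t09 i = (wd x09 i : ℕ) := tb_eq (by (first | (rewrite [Cfsg.Agent.KOf078396.e20, Cfsg.Agent.KOf078396.e21, Cfsg.Agent.KOf078396.e24]; decide +kernel) | decide +kernel))
def l09 : List Lv := (beta% delta% lq2644d723fe fun a b c d _ _ =>
 (a (d 281 c (a (b 1 0)<|c) c 324)<|
 a (d 322 (a (b 112 1)<|a (b 281 0)<|c) c c 81)<|
 a (d 57 (a (b 112 1)<|a (b 322 1)<|a (b 140 1)<|c) (a (b 1 0)<|c) c 6)<|
 a (d 373 (a (b 140 1)<|a (b 300 1)<|a (b 160 0)<|a (b 281 0)<|a (b 112 0)<|c) (a (b 1 0)<|c) c 4)<|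
 a (d 370 (a (b 160 1)<|a (b 140 1)<|a (b 57 1)<|a (b 311 1)<|c) (a (b 1 0)<|c) c 2)<|
 a (d 143 (a (b 160 1)<|a (b 57 1)<|a (b 247 1)<|a (b 300 1)<|a (b 28 1)<|c) c c 1)<|
 a (d 216 (a (b 45 1)<|a (b 157 1)<|a (b 247 1)<|a (b 373 1)<|a (b 311 1)<|c) c c 1)<|
 a (d 26 (a (b 281 1)<|a (b 140 1)<|a (b 197 1)<|a (b 57 1)<|a (b 311 1)<|c) c c 1)<|
 a (d 272 (a (b 140 1)<|a (b 157 1)<|a (b 373 1)<|a (b 311 1)<|c) (a (b 1 0)<|c) c 1)<|
 a (d 290 (a (b 281 1)<|a (b 45 1)<|a (b 57 1)<|a (b 28 1)<|a (b 143 1)<|c) c c 1)<|c))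
theorem b09 : Nat.card ↥(centralizer ({w2 x09} : Set ↥M2)) ≤ 1259712 :=
  (bndT e09 (l := l09) (m := 3) (by (first | (rewrite [Cfsg.Agent.KOf078396.e17, Cfsg.Agent.KOf078396.e18, Cfsg.Agent.KOf078396.e19]; decide +kernel) | decide +kernel))).trans (by decide)
theorem o09 : orderOf (wd x09) = 3 := orderOf_eq (pv_pt e09) (ps := [3]) (by norm_num) (by norm_num)
  (by decide +kernel) (by norm_num)
theorem f09 : fixN (wd x09) = 54 := by
  rw [← pow_one (wd x09), fixN_pow (pv_pt e09)]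
  decide +kernel
theorem g09 : fixN (wd x09 ^ 2) = 54 := by
  rw [fixN_pow (pv_pt e09)]
  decide +kernel
theorem a09 : adjN R (wd x09) = 0 := by
  rw [adjN_val (f := lk t09) e09]
  decide +kernel

def x10 : List ℕ := [3, 2, 5, 3, 1, 2, 6]
private def t10 : ℕ := nat_lit 0x2d02501a1d00e033006154248660840e41f06b08c1041b86403e1282f80a0e41640302705c4886f8fe2925b09f89617430c8397713a39ca88c82224c4549381043b03d8f026c3b89a0892ae2348d11f2b21e4401182bc3388412c134458a80a61c45e4b81211802dca58fd1ba24ca18010a015c060260b80783683103a008058540ba0c01487009811c348130ca0682181507e19c3d0ac1a035c470b315c3483f16b1224105e12327836ca60c12285d0638e425a2848315514e24893148170378b70c52004f4ad07d23a464ae08111046cac14f2122a04f9301ca44c661730c605c1d8360d00640903d0d40ac26871022014100620b00d03600f0ac0b4150070361802794d2e24a47090521c3184c8a21143e0b016510c3d07c9640ec2ec809462842546d1272da2fc8815413c4ac6690a1483a0bb0d92de2e4a289724a2f881940160574798ea10a4e4b39171a84706b15f2ac3dc5908c2643bc9b8f10ea33cb191e1f62acad8b52504f84c0ff2d23086e14a1d24348a97225c538528c91384d43c0f211e3b4998eb2741fc688ad0f820c698af16221c6a89b2ea42ca98e31944485512f28e4085b1411c0250b5124188024270350081b82f0210501481e0450280581c0440800601d04b0b608c0706f0a60bc040241f8360901682884ec480bd1685987a8841165847b0fa0ee5886597821e3985012a2a4430518100900c81605104418400073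
private theorem e10 : ∀ i : Fin 378, lk t10 i = (wd x10 i : ℕ) := tb_eq (by (first | (rewrite [Cfsg.Agent.KOf078396.e20, Cfsg.Agent.KOf078396.e21, Cfsg.Agent.KOf078396.e24]; decide +kernel) | decide +kernel))
def l10 : List Lv := (beta% delta% lq2644d723fe fun a b c d _ _ =>
 (a (d 202 c (a (b 1 1)<|a (b 2 0)<|c) c 128)<|
 a (d 74 (a (b 202 1)<|a (b 5 1)<|a (b 75 0)<|a (b 44 0)<|c) (a (b 1 0)<|a (b 2 0)<|c) c 6)<|
 a (d 143 (a (b 75 1)<|a (b 74 1)<|a (b 5 0)<|a (b 44 0)<|a (b 358 0)<|c) (a (b 1 1)<|c) c 1)<|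
 a (d 140 (a (b 202 1)<|a (b 26 1)<|a (b 274 1)<|a (b 74 0)<|a (b 75 0)<|a (b 176 0)<|c) (a (b 1 0)<|c) c 1)<|
 a (d 216 (a (b 202 1)<|a (b 74 1)<|a (b 176 1)<|a (b 274 1)<|a (b 357 0)<|c) c c 1)<|
 a (d 272 (a (b 75 1)<|a (b 74 1)<|a (b 140 1)<|a (b 358 1)<|a (b 357 1)<|c) c c 1)<|
 a (d 290 (a (b 202 1)<|a (b 44 1)<|a (b 246 1)<|a (b 358 1)<|c) (a (b 1 1)<|c) c 1)<|c))
theorem b10 : Nat.card ↥(centralizer ({w2 x10} : Set ↥M2)) ≤ 768 :=
  (bndT e10 (l := l10) (m := 4) (by (first | (rewrite [Cfsg.Agent.KOf078396.e17, Cfsg.Agent.KOf078396.e18, Cfsg.Agent.KOf078396.e19]; decide +kernel) | decide +kernel))).trans (by decide)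
theorem o10 : orderOf (wd x10) = 4 := orderOf_eq (pv_pt e10) (ps := [2]) (by norm_num) (by norm_num)
  (by decide +kernel) (by norm_num)
theorem f10 : fixN (wd x10) = 2 := by
  rw [← pow_one (wd x10), fixN_pow (pv_pt e10)]
  decide +kernel
theorem g10 : fixN (wd x10 ^ 2) = 18 := by
  rw [fixN_pow (pv_pt e10)]
  decide +kernel
theorem a10 : adjN R (wd x10) = 144 := by
  rw [adjN_val (f := lk t10) e10]
  decide +kernel

def x11 : List ℕ := [7, 6, 0, 2]
private def t11 : ℕ := nat_lit 0x2111a2701648b13f0924849884d2365042b92826e1008712d2464488e04709c1609e9332521509293a0a04789f03f2204b82a9112861188f936090480950440981589391523a4f09912f09644c9c84524c5002911925610c9214209e4509a85322e4c02084a0a2488879182764d09606a2c83c42e96e1c81b8b90e00d25d8748702de3b42e15f1b81843906b2ee598b80ec1c43603996c1e0198bc8e60b45846e8622da3a0341651de1b0b88d92ea58cb585e0e219c758e11bc180ba0f20de59c728652d43683a1621ce17cbc0ee0c85a06f85b0da18cb99602d23a8718db02c34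c478191ac218098d00fa0346008b02030c4100a17a1e45089710e2784a07e1362443a80c184230078c51060245f87a02a348440181aa1fc090cf0ec2804b08d13a24c4209a1201ec0f8cb112088670800383203b820192238118cc10a0746307c01c05c0f0d41823284f8981140440d0211ae3106689c12a204058140363445f0c71322483c14721a0d4aa9000525587a0362a04301f14b1ec094ab8fc05c4107d90b0740c01514629c560ad1020685287b82629a4181c15b1f20f4aa1010565148282d292548ac83906409c7e8f520e5447d0332bc420161441fc0dca41030785708502829e3cc1794c2a65747f8f82120ec1882415c2ec020b117001c558b50022985d0061522dc018a3168000590aa1782bc538b91582905b0b0150020598a500a2b451002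
private theorem e11 : ∀ i : Fin 378, lk t11 i = (wd x11 i : ℕ) := tb_eq (by decide +kernel)
def l11 : List Lv := (beta% delta% lq2644d723fe fun a b c d _ _ =>
 (a (d 265 c (a (b 1 1)<|a (b 2 1)<|c) c 24)<|
 a (d 309 (a (b 265 1)<|c) (a (b 1 2)<|c) c 2)<|
 a (d 341 (a (b 66 1)<|a (b 377 1)<|a (b 309 1)<|c) (a (b 2 0)<|a (b 1 0)<|c) c 2)<|
 a (d 89 (a (b 247 1)<|a (b 265 0)<|a (b 39 0)<|a (b 66 0)<|a (b 309 0)<|c) (a (b 2 0)<|a (b 1 0)<|c) c 2)<|
 a (d 65 (a (b 309 1)<|a (b 113 1)<|a (b 89 1)<|a (b 265 0)<|c) (a (b 2 1)<|c) c 2)<|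
 a (d 143 (a (b 247 1)<|a (b 346 1)<|a (b 305 1)<|a (b 309 0)<|a (b 369 0)<|c) (a (b 2 1)<|c) c 1)<|
 a (d 140 (a (b 265 1)<|a (b 66 1)<|a (b 341 1)<|a (b 309 0)<|a (b 374 1)<|c) c c 1)<|
 a (d 216 (a (b 265 1)<|a (b 309 1)<|a (b 65 1)<|a (b 113 0)<|c) (a (b 2 0)<|c) c 1)<|
 a (d 26 (a (b 39 1)<|a (b 369 1)<|a (b 186 1)<|a (b 374 0)<|c) (a (b 1 1)<|c) c 1)<|
 a (d 272 (a (b 265 1)<|a (b 39 1)<|a (b 113 1)<|a (b 309 0)<|a (b 286 0)<|c) c c 1)<|
 a (d 290 (a (b 39 1)<|a (b 66 1)<|a (b 270 1)<|a (b 377 1)<|a (b 341 0)<|c) c c 1)<|c))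
theorem b11 : Nat.card ↥(centralizer ({w2 x11} : Set ↥M2)) ≤ 384 :=
  (bndT e11 (l := l11) (m := 4) (by (first | (rewrite [Cfsg.Agent.KOf078396.e17, Cfsg.Agent.KOf078396.e18, Cfsg.Agent.KOf078396.e19]; decide +kernel) | decide +kernel))).trans (by decide)
theorem o11 : orderOf (wd x11) = 4 := orderOf_eq (pv_pt e11) (ps := [2]) (by norm_num) (by norm_num)
  (by decide +kernel) (by norm_num)
theorem f11 : fixN (wd x11) = 4 := by
  rw [← pow_one (wd x11), fixN_pow (pv_pt e11)]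
  decide +kernel
theorem g11 : fixN (wd x11 ^ 2) = 38 := by
  rw [fixN_pow (pv_pt e11)]
  decide +kernel
theorem a11 : adjN R (wd x11) = 126 := by
  rw [adjN_val (f := lk t11) e11]
  decide +kernel

def x12 : List ℕ := [3, 6, 2, 3, 1, 2]
private def t12 : ℕ := nat_lit 0x440a818a26c688b600e0800c8832600ac8591d0365a85c0681c003c898581245d4ae0b106c2749a03200039c780820584c4838ec2445b0a893611230c5485112c5dc3993f1900406f91100a4908c87c2901804f8632a65b8168d50fa188a390902e38c2b0942e62bcac03b27a1c46515b2ec5006c8f32203344b8b21e20087492e10a0a41809c2644d4348cf11e0fcb38eb0344708a0f90124f04a83a15c5c4378bf0ec2885e0a11ae058020230f4114b20211c248c5d95505e1c84815906e5e06700d1ec374a909a0d6468031200b422ca594414c094400422c217c950c02303887e82e0c81245e8a30ee0e49d89319655c2a9160143e85004a2e04207e00308c1e4b114d1a412c9682810c050939040dc0e0298da21c3d0560c712241880808080238b289909c5ac2e14a1183a80f0ff16a4dc2800c1b83dcae86d1304f85585714a5141312b0ba3082187f2be19c998d429c2e41889e0985a47401d25004c7911e21a40c008a40ea2f89290a1de4e4b79540163ec8a8c90a8558581720e011c3c1630ca4e86b0151da45c0e10c23e198b40b704e210960740b20f8af17928643c7a8d82a02d0198e603e4842088d2cc340b68352982282d8e420a0601e17418c36c7c00e284148599290bc3042207e2c029ca30240544bc408d329e1349301220431055087236394800340d413c088de224504360cc2b42b41e8ee0443f85d138090184a487b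
private theorem e12 : ∀ i : Fin 378, lk t12 i = (wd x12 i : ℕ) := tb_eq (by (first | (rewrite [Cfsg.Agent.KOf078396.e20, Cfsg.Agent.KOf078396.e21, Cfsg.Agent.KOf078396.e24]; decide +kernel) | decide +kernel))
def l12 : List Lv := (beta% delta% lq2644d723fe fun a b c d _ _ =>
 (a (d 148 c (a (b 2 1)<|c) c 72)<|
 a (d 192 (a (b 367 1)<|a (b 109 1)<|c) (a (b 1 1)<|a (b 2 0)<|c) c 4)<|
 a (d 233 (a (b 109 1)<|a (b 72 1)<|a (b 148 0)<|a (b 367 0)<|c) (a (b 1 1)<|c) c 8)<|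
 a (d 143 (a (b 304 1)<|a (b 367 1)<|a (b 233 1)<|a (b 192 1)<|a (b 364 1)<|c) c c 1)<|
 a (d 140 (a (b 304 1)<|a (b 338 1)<|a (b 165 1)<|c) (a (b 1 1)<|c) c 1)<|
 a (d 26 (a (b 148 1)<|a (b 109 1)<|a (b 338 1)<|a (b 3 1)<|a (b 285 1)<|c) c c 1)<|
 a (d 272 (a (b 304 1)<|a (b 109 1)<|a (b 192 1)<|a (b 285 1)<|a (b 357 1)<|c) c c 1)<|
 a (d 290 (a (b 148 1)<|a (b 143 1)<|a (b 299 1)<|a (b 159 1)<|a (b 285 0)<|c) c c 1)<|c))
theorem b12 : Nat.card ↥(centralizer ({w2 x12} : Set ↥M2)) ≤ 2304 :=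
  (bndT e12 (l := l12) (m := 4) (by (first | (rewrite [Cfsg.Agent.KOf078396.e17, Cfsg.Agent.KOf078396.e18, Cfsg.Agent.KOf078396.e19]; decide +kernel) | decide +kernel))).trans (by decide)
theorem o12 : orderOf (wd x12) = 4 := orderOf_eq (pv_pt e12) (ps := [2]) (by norm_num) (by norm_num)
  (by decide +kernel) (by norm_num)
theorem f12 : fixN (wd x12) = 6 := by
  rw [← pow_one (wd x12), fixN_pow (pv_pt e12)]
  decide +kernel
theorem g12 : fixN (wd x12 ^ 2) = 18 := by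
  rw [fixN_pow (pv_pt e12)]
  decide +kernel
theorem a12 : adjN R (wd x12) = 108 := by
  rw [adjN_val (f := lk t12) e12]
  decide +kernel

def x13 : List ℕ := [6, 2, 7]
private def t13 : ℕ := nat_lit 0x8485f2844343093e20a1689e8f60d04e47d06a26e3d4319320de1c4381042064089892a2584202e941218188a01070b64f07b8672703ec349361e61949a0ff202400398720e84b898129214178a190b0c04fc8305c2763e03313a1f21ac9a8f40c84cc7e8fc1fc1b83686c2564b49795b08e3c0ae8431dc5581f8ec2901647494a0aa394a30511c2548a8950096130268e01b236cad0461e4570210ed2b0104759490ae3a0a58561c8510290e30a0138279532aa5506e8df1b0564228f12bc110779570803a8a38581ce5302a0e628a14c7114e29a53c2484a0903686e0de16e03c508ba0182785a00913629c10896154078498a4036240478881142183f8810fa1d83c0b90222805e00e13a2d80589a14a0884c0a803e2545101c124230470871062143f07a0f81d45c01013e2ec0689c16a0284c8a604625c5482012828c0e89115e2b8580190340604488b11a2c8588b302c05c0a880104210560ab15a04c0a0120ee1e43d91d2c80f88d965072464b00372285b01a9122e00c48816805a5d8ba97404c0a0151222404848f16207a470b303b22e5841b1162d60d08896f06043cb502f24e4a09302c04a09cb89732e447cb183c23459c1d1182be0e08a96d06644cb703221c5a417123248494bc1772f20a415824198308018c918a018630bf00031065808182338028be190008690d41a63546b8d619e344680c319401c600cd0082f463801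
private theorem e13 : ∀ i : Fin 378, lk t13 i = (wd x13 i : ℕ) := tb_eq (by decide +kernel)
def l13 : List Lv := (beta% delta% lq2644d723fe fun a b c d _ _ =>
 (a (d 334 c (a (b 1 1)<|a (b 2 1)<|c) c 120)<|
 a (d 77 (a (b 334 0)<|a (b 224 0)<|c) (a (b 2 2)<|a (b 1 0)<|c) c 8)<|
 a (d 161 (a (b 334 1)<|a (b 272 1)<|a (b 77 1)<|a (b 224 0)<|c) (a (b 1 1)<|c) c 3)<|
 a (d 140 (a (b 334 1)<|a (b 272 1)<|a (b 273 1)<|a (b 224 0)<|a (b 161 1)<|c) (a (b 1 1)<|c) c 2)<|
 a (d 143 (a (b 77 1)<|a (b 161 1)<|a (b 14 0)<|a (b 203 0)<|a (b 224 0)<|c) (a (b 1 1)<|c) c 1)<|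
 a (d 216 (a (b 101 1)<|a (b 273 1)<|a (b 184 1)<|a (b 272 0)<|c) (a (b 2 0)<|c) c 1)<|
 a (d 26 (a (b 224 1)<|a (b 77 1)<|a (b 197 1)<|a (b 161 1)<|c) (a (b 2 0)<|c) c 1)<|
 a (d 290 (a (b 101 1)<|a (b 273 1)<|a (b 143 1)<|c) (a (b 1 1)<|c) c 1)<|c))
theorem b13 : Nat.card ↥(centralizer ({w2 x13} : Set ↥M2)) ≤ 5760 :=
  (bndT e13 (l := l13) (m := 4) (by (first | (rewrite [Cfsg.Agent.KOf078396.e17, Cfsg.Agent.KOf078396.e18, Cfsg.Agent.KOf078396.e19]; decide +kernel) | decide +kernel))).trans (by decide)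
theorem o13 : orderOf (wd x13) = 4 := orderOf_eq (pv_pt e13) (ps := [2]) (by norm_num) (by norm_num)
  (by decide +kernel) (by norm_num)
theorem f13 : fixN (wd x13) = 16 := by
  rw [← pow_one (wd x13), fixN_pow (pv_pt e13)]
  decide +kernel
theorem g13 : fixN (wd x13 ^ 2) = 38 := by
  rw [fixN_pow (pv_pt e13)]
  decide +kernel
theorem a13 : adjN R (wd x13) = 162 := by
  rw [adjN_val (f := lk t13) e13]
  decide +kernel

def x14 : List ℕ := [1, 2, 6, 7]
private def t14 : ℕ := nat_lit 0x7b8e4248450810f11c045c83123224470858fb2083a86d8e31de4948511e2063a0798d92200e8150300b011c2706d0b618c340540501401e06205e1b01f8260ba10c278340d41b8298382b84e8b293e2da520b894f25c528a116e2c85689a9302e4534b493329c518b012927a560b99622a04fca59382f04c4b41572b2524a91772cc5c09d92c2685b0a89362865e4af144254584358610e40c813839094104288730661182a8660580dc2405a0e80f82c82508417c2486405c3c08f8fa210398889201fc3748b10c1ce3d87711a1be4847e1181c43f47a90f1b03b08392210c3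245c08f1982ec3e8c616a2704089513e2284c0990f02485287f1842a0440c51441d85f81a0220840b80e03c0500581b00a0600600802a03c010120120641000702c08c0201303a0046a8b31183485808319e2b43d08e1ac2c4428d315c1f0680ab19a25c590aa18821c508bc1ae3284a0af14e3043f09e172350638911582905f0751362d8688e91f2498809131da4646e10524e4748a9091fe3e0758e11bc434940f21ca4008d90e1b43d0b59752c654cae94c2644f09794726e5d0b39552824b4b51562ec56ca01542725bc9595f28a1802b8350521bc2684006c1943484507a12c1587005a1702903b0ac1c4338310981102f024126274420961402344809a0f6208658b71163385d0791902d0400c014c224618a90ee2f45180601a0880181003e0000501c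
private theorem e14 : ∀ i : Fin 378, lk t14 i = (wd x14 i : ℕ) := tb_eq (by decide +kernel)
def l14 : List Lv := (beta% delta% lq2644d723fe fun a b c d _ _ =>
 (a (d 164 c (a (b 1 1)<|a (b 2 1)<|c) c 60)<|
 a (d 79 (a (b 164 1)<|a (b 122 1)<|a (b 19 1)<|c) (a (b 2 0)<|a (b 1 1)<|c) c 2)<|
 a (d 140 (a (b 164 1)<|a (b 153 1)<|a (b 200 1)<|a (b 19 1)<|a (b 356 0)<|a (b 122 0)<|c) c c 2)<|
 a (d 143 (a (b 153 1)<|a (b 79 1)<|a (b 159 1)<|a (b 311 0)<|a (b 356 0)<|c) (a (b 1 0)<|c) c 1)<|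
 a (d 216 (a (b 19 1)<|a (b 329 1)<|a (b 129 1)<|a (b 356 1)<|c) (a (b 2 0)<|c) c 1)<|
 a (d 26 (a (b 122 1)<|a (b 329 1)<|a (b 356 1)<|a (b 311 1)<|a (b 140 1)<|c) c c 1)<|
 a (d 272 (a (b 153 1)<|a (b 79 1)<|a (b 188 1)<|a (b 311 1)<|a (b 25 1)<|c) c c 1)<|c))
theorem b14 : Nat.card ↥(centralizer ({w2 x14} : Set ↥M2)) ≤ 240 :=
  (bndT e14 (l := l14) (m := 5) (by (first | (rewrite [Cfsg.Agent.KOf078396.e17, Cfsg.Agent.KOf078396.e18, Cfsg.Agent.KOf078396.e19]; decide +kernel) | decide +kernel))).trans (by decide)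
theorem o14 : orderOf (wd x14) = 5 := orderOf_eq (pv_pt e14) (ps := [5]) (by norm_num) (by norm_num)
  (by decide +kernel) (by norm_num)
theorem f14 : fixN (wd x14) = 3 := by
  rw [← pow_one (wd x14), fixN_pow (pv_pt e14)]
  decide +kernel
theorem g14 : fixN (wd x14 ^ 2) = 3 := by
  rw [fixN_pow (pv_pt e14)]
  decide +kernel
theorem a14 : adjN R (wd x14) = 135 := by
  rw [adjN_val (f := lk t14) e14]
  decide +kernel

def x15 : List ℕ := [2, 1, 0, 4, 6, 3, 2, 1, 0, 4, 6, 3]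
private def t15 : ℕ := nat_lit 0x1795f242438b90371a00085e8ec0dc288248f31365109e8131fc028710ad0804cca785c1223281291e23a32c1482a23e324100831742f00f0840fe2ec0f9590cc224ad06711c56c3408a2c4304898060740d0bc9271aa400a90ae27239c4c05e08c03c7c8171de2a82593e2961d04e8231182dc5c82111a2205c0221004342b05510a42c860541020acb68cd04e5b0670262d63307185a1560fc7e09229a4d0049461d61289e06d1ea0505209a05a2f8b880021e4801b16019e3e8a60a827e3b44f07209a0582e81008e2c0a88ff1d24e04b83b1ac590041282240ccbb8c00de3dca184f28e3c00d0a71400f86212500659cba832228348589350885504a8622083940615301a4dc598611c840c210942ec0f08b12306259869805186294a084e290284380f81e20643b8db2604b03e0da1be4ac3c0c72d04648b8c82d25a88c0c620c3780e9580f41945a12a0a22d89705220a3640d9570f6190ab0760c62d49785320e3740e11c0485c0b711b0580a0b791a0b24284388b0ae4248408f0b01ac4115e0d21f8ae06a10c574009612e62fc910381a20b8880ac0162402d9321fa384a70410904ec5186c132514090ea1e84446116307201c1a9781ae498a00ee138528548fb02a1cc260111d04042293a15e17c4b1500a03d84f87114c3c80c14928410caa8e601c2c8498602044d8ba0c50604908a8041a85941e9290f23806e1310ea1f46c12d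
private theorem e15 : ∀ i : Fin 378, lk t15 i = (wd x15 i : ℕ) := tb_eq (by (first | (rewrite [Cfsg.Agent.KOf078396.e20, Cfsg.Agent.KOf078396.e21, Cfsg.Agent.KOf078396.e24]; decide +kernel) | decide +kernel))
def l15 : List Lv := (beta% delta% lq2644d723fe fun a b c d _ _ =>
 (a (d 298 c (a (b 1 1)<|c) c 72)<|
 a (d 300 (a (b 136 1)<|a (b 85 1)<|a (b 284 1)<|a (b 116 1)<|c) c c 3)<|
 a (d 143 (a (b 298 1)<|a (b 290 1)<|a (b 300 1)<|a (b 158 1)<|c) (a (b 3 1)<|c) c 1)<|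
 a (d 140 (a (b 298 1)<|a (b 300 1)<|a (b 158 1)<|a (b 100 1)<|a (b 262 1)<|c) c c 1)<|
 a (d 216 (a (b 100 1)<|a (b 126 1)<|a (b 116 0)<|c) (a (b 1 1)<|c) c 1)<|
 a (d 26 (a (b 158 1)<|a (b 126 1)<|a (b 295 1)<|a (b 140 1)<|a (b 316 1)<|c) c c 1)<|
 a (d 272 (a (b 284 1)<|a (b 238 1)<|a (b 257 1)<|a (b 216 0)<|a (b 290 0)<|c) c c 1)<|c))
theorem b15 : Nat.card ↥(centralizer ({w2 x15} : Set ↥M2)) ≤ 216 :=
  (bndT e15 (l := l15) (m := 6) (by (first | (rewrite [Cfsg.Agent.KOf078396.e17, Cfsg.Agent.KOf078396.e18, Cfsg.Agent.KOf078396.e19]; decide +kernel) | decide +kernel))).trans (by decide)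
theorem o15 : orderOf (wd x15) = 6 := orderOf_eq (pv_pt e15) (ps := [2, 3]) (by norm_num) (by norm_num)
  (by decide +kernel) (by norm_num)
theorem f15 : fixN (wd x15) = 0 := by
  rw [← pow_one (wd x15), fixN_pow (pv_pt e15)]
  decide +kernel
theorem g15 : fixN (wd x15 ^ 2) = 0 := by
  rw [fixN_pow (pv_pt e15)]
  decide +kernel
theorem a15 : adjN R (wd x15) = 72 := by
  rw [adjN_val (f := lk t15) e15]
  decide +kernel

def x16 : List ℕ := [6, 4, 3, 7, 1]
private def t16 : ℕ := nat_lit 0x3311529e064668a308a5dc8311f0e05185b0d502015c7e96524c178ab0211563147996e09c2a00b8c82aa1ac8810c0885c8100b217a574900622d01347d8bb01834439918296580810541c23887192c25e4a44d8991343706f8d904e0901508811c22c3d09800e1f44b8080ee258031122a0194530131940fcba9080d85248d80a172348298ff2c44942d95a0362b8610f62d8128658a502818c89951214104ba0c003a2bc9205c2b25b4240f81700246a06e238520b19000a40e01b0371c83987289d13c2709a93726c3bc770ed1041fc42880126000418950022184a0022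a81a8878c71520582117321a5308b87419e0345e05520857c908612bc078588bf1f25a82601a19c2888b14d0ce4142397915830c1185f2b04a0b784f1ea2d4078d70de474a29661fc1649892e2560f41e03e13e280508320600c4a09422861f03c8762760947813d0503c49e02b1e40d49c8de0684e86d8332703604789100a224480031182480207123c5106b0b40223f02c16724e174ab8c40442b4b80501e84503414e030290661072f01185981f17c488ae0600965a47d00e1743403914a232158819611540546306921c54cb890b086374700da0520981608711a228760ea1d64c8999340f01ec3a83b25a3a41d1301d00e4950e71822c00e15b0b448c2496b1ee34c058b728e4683685120259053812192190889522ec4242014027e4f81702d05e1f840884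
private theorem e16 : ∀ i : Fin 378, lk t16 i = (wd x16 i : ℕ) := tb_eq (by (first | (rewrite [Cfsg.Agent.KOf078396.e20, Cfsg.Agent.KOf078396.e21, Cfsg.Agent.KOf078396.e24]; decide +kernel) | decide +kernel))
def l16 : List Lv := (beta% delta% lq2644d723fe fun a b c d _ _ =>
 (a (d 38 c (a (b 1 1)<|a (b 2 0)<|c) c 36)<|
 a (d 290 (a (b 44 1)<|a (b 57 1)<|c) (a (b 2 0)<|c) c 18)<|
 a (d 143 (a (b 58 1)<|a (b 59 1)<|a (b 290 1)<|a (b 74 1)<|a (b 86 0)<|c) (a (b 1 0)<|c) c 1)<|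
 a (d 140 (a (b 58 1)<|a (b 59 1)<|a (b 302 1)<|a (b 143 0)<|a (b 86 0)<|c) c c 1)<|
 a (d 216 (a (b 74 1)<|a (b 38 0)<|a (b 143 0)<|a (b 302 0)<|a (b 290 0)<|a (b 86 0)<|a (b 125 0)<|c) (a (b 1 1)<|a (b 2 1)<|c) c 1)<|
 a (d 26 (a (b 44 1)<|a (b 57 1)<|a (b 86 1)<|a (b 270 1)<|a (b 140 1)<|c) c c 1)<|
 a (d 272 (a (b 41 1)<|a (b 59 1)<|a (b 125 1)<|a (b 86 1)<|a (b 74 1)<|c) c c 1)<|c))
theorem b16 : Nat.card ↥(centralizer ({w2 x16} : Set ↥M2)) ≤ 648 :=
  (bndT e16 (l := l16) (m := 6) (by (first | (rewrite [Cfsg.Agent.KOf078396.e17, Cfsg.Agent.KOf078396.e18, Cfsg.Agent.KOf078396.e19]; decide +kernel) | decide +kernel))).trans (by decide)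
theorem o16 : orderOf (wd x16) = 6 := orderOf_eq (pv_pt e16) (ps := [2, 3]) (by norm_num) (by norm_num)
  (by decide +kernel) (by norm_num)
theorem f16 : fixN (wd x16) = 0 := by
  rw [← pow_one (wd x16), fixN_pow (pv_pt e16)]
  decide +kernel
theorem g16 : fixN (wd x16 ^ 2) = 0 := by
  rw [fixN_pow (pv_pt e16)]
  decide +kernel
theorem a16 : adjN R (wd x16) = 90 := by
  rw [adjN_val (f := lk t16) e16]
  decide +kernel

def x17 : List ℕ := [4, 3, 2, 5, 6]
private def t17 : ℕ := nat_lit 0x7413007452c399180a4400b18bd2260a46e86214a104438fb268490541551d6300b690c0ea38c5c872292038948561343fca990e0d25682d92500e1e84c0df2b83280f865048420471691c847c089440702d82b96713a3b48a82219a1749b05010a5dc270460025e04a8f31065b8838d41700247483b25a150811601d42bc3595902e4cc2207b1f032c6d15d058080319682142286a91e06e394380b40b02707e8c5156084660181480004009324e28c9b8ee18853c8307f2e03409606c1c20288c8532c226ca80b30543640992209622cba84a086020b88971ec1f4b610b2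8a474378d701e2d42c8fe2cc5349f82319c0b4940471023d42f81a05e2b08b13e2de414421472560346983e22e144509041e04ec128de06a4e40288f1220581805a21e5085810d0f25aca60b707a33c369310aa5904f8c12861a8ad8311521243b1732bc3246d8a72744841a0610242fca90f10c80a00f13d162444260400065d8480f91125a8849140d05382f1262ac2184a00226a064ab86615a3bc7a08208a1c40803628c3986b09e1f85948902717c180530dc1103e81f8aa02a3180d8ae1842583b8062362e8978e21a4528818992c44400e8ec0b84c8640782e4120900141c0098591512e82342686e072030950bb238344a40e7282070aa03224631c3e0f70844e0198d80564f0790921180100583c0e8468970bc202280af8a205c560339401865e43f04f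
private theorem e17 : ∀ i : Fin 378, lk t17 i = (wd x17 i : ℕ) := tb_eq (by (first | (rewrite [Cfsg.Agent.KOf078396.e20, Cfsg.Agent.KOf078396.e21, Cfsg.Agent.KOf078396.e24]; decide +kernel) | decide +kernel))
def l17 : List Lv := (beta% delta% lq2644d723fe fun a b c d _ _ =>
 (a (d 271 c (a (b 3 1)<|a (b 1 1)<|c) c 54)<|
 a (d 99 (a (b 167 1)<|a (b 140 1)<|a (b 271 0)<|a (b 19 1)<|c) (a (b 1 1)<|c) c 2)<|
 a (d 143 (a (b 229 1)<|a (b 167 0)<|a (b 303 1)<|a (b 69 0)<|a (b 126 0)<|c) (a (b 3 1)<|c) c 1)<|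
 a (d 216 (a (b 167 1)<|a (b 19 1)<|a (b 273 1)<|a (b 140 0)<|c) (a (b 2 1)<|c) c 1)<|
 a (d 26 (a (b 140 1)<|a (b 99 1)<|a (b 303 1)<|a (b 167 0)<|c) (a (b 1 0)<|c) c 1)<|
 a (d 272 (a (b 167 1)<|a (b 140 1)<|a (b 75 1)<|a (b 126 1)<|a (b 69 1)<|c) c c 1)<|
 a (d 290 (a (b 167 1)<|a (b 273 1)<|a (b 143 1)<|a (b 126 1)<|a (b 303 1)<|c) c c 1)<|c))
theorem b17 : Nat.card ↥(centralizer ({w2 x17} : Set ↥M2)) ≤ 108 :=
  (bndT e17 (l := l17) (m := 6) (by (first | (rewrite [Cfsg.Agent.KOf078396.e17, Cfsg.Agent.KOf078396.e18, Cfsg.Agent.KOf078396.e19]; decide +kernel) | decide +kernel))).trans (by decide)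
theorem o17 : orderOf (wd x17) = 6 := orderOf_eq (pv_pt e17) (ps := [2, 3]) (by norm_num) (by norm_num)
  (by decide +kernel) (by norm_num)
theorem f17 : fixN (wd x17) = 0 := by
  rw [← pow_one (wd x17), fixN_pow (pv_pt e17)]
  decide +kernel
theorem g17 : fixN (wd x17 ^ 2) = 0 := by
  rw [fixN_pow (pv_pt e17)]
  decide +kernel
theorem a17 : adjN R (wd x17) = 126 := by
  rw [adjN_val (f := lk t17) e17]
  decide +kernel

def x18 : List ℕ := (beta% delta% lq2644d723fe fun a _ c _ _ _ =>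
 (a 3<|a 6<|a 7<|a 6<|a 5<|a 0<|a 5<|a 6<|a 5<|a 1<|a 2<|a 3<|a 6<|a 1<|a 2<|a 7<|a 1<|c))
private def t18 : ℕ := nat_lit 0x698db2a85d43d1032484b459066116460a89490002802f9212ca448130b51220487295d0961c04c1100a03a45f01a27457c7e1771000701f0611d832ca580519235c5681d1322a04280e2520ec4f0760685006d0071de30c2495e2c42d03982726824c5380f11e19c809412e645c178c728e3c4b908a2000d82e8210d21e08f0541b83340f12e2de4d83910c222598128481c455c9a8132c6134718c5178414141022e81d45892325654c690d90b23c0a90372d0488080a611a180b68ab0fc0c49e94a1aa1485f84f2b64380c90a2c01c45c8841520349d8641fc0c8bc91a006108289781043f4b60fa13418c4191b1d610c6b0ac1f20f00c0971704e48486f2b4138741071740b0250e61802403a1161fe5c4440a12d43dc2c00108a100a28de1e64c02d87d0122907b1200442241714308c320a80c1098560150952644548581425e3d02e09c0402cc1d1252dc5181f8e00ac554768d41980200587c1444109f06a23a0d4bb16421a248620e42ac0a40b86e0ee1ac8f92a03e5c06c05519c344010c613e2c01181114a2384d86224c1943f91c29a530020e717a5649c10f16e258b09082505ac1e94f1d414c430aa01815c681482840b4460af2d21781993f0f2018770dd072274961060d84cc0a8bb12844cb382415c3e01c06810e4647904719e3846115c0da0ac0b0b62284dc988f50b4510208df0141ec518302782046514e08849c0d8fb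
private theorem e18 : ∀ i : Fin 378, lk t18 i = (wd x18 i : ℕ) := tb_eq (by (first | (rewrite [Cfsg.Agent.KOf078396.e20, Cfsg.Agent.KOf078396.e21, Cfsg.Agent.KOf078396.e24]; decide +kernel) | decide +kernel))
def l18 : List Lv := (beta% delta% lq2644d723fe fun a b c d _ _ =>
 (a (d 344 c (a (b 3 0)<|a (b 2 0)<|c) c 144)<|
 a (d 257 (a (b 185 1)<|a (b 225 1)<|c) (a (b 1 1)<|c) c 18)<|
 a (d 262 (a (b 185 1)<|a (b 225 1)<|a (b 136 1)<|a (b 177 1)<|a (b 344 0)<|c) c c 2)<|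
 a (d 143 (a (b 344 1)<|a (b 301 1)<|a (b 257 0)<|a (b 262 0)<|c) (a (b 2 2)<|a (b 1 1)<|c) c 1)<|
 a (d 140 (a (b 225 1)<|a (b 26 1)<|a (b 301 1)<|a (b 370 1)<|a (b 187 0)<|c) c c 1)<|
 a (d 216 (a (b 74 1)<|a (b 185 1)<|a (b 257 1)<|a (b 293 1)<|a (b 40 0)<|c) c c 1)<|
 a (d 272 (a (b 150 1)<|a (b 74 1)<|a (b 40 1)<|a (b 257 1)<|a (b 261 1)<|c) c c 1)<|
 a (d 290 (a (b 185 1)<|a (b 225 1)<|a (b 187 1)<|a (b 301 1)<|a (b 136 1)<|c) c c 1)<|c))
theorem b18 : Nat.card ↥(centralizer ({w2 x18} : Set ↥M2)) ≤ 5184 :=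
  (bndT e18 (l := l18) (m := 6) (by (first | (rewrite [Cfsg.Agent.KOf078396.e17, Cfsg.Agent.KOf078396.e18, Cfsg.Agent.KOf078396.e19]; decide +kernel) | decide +kernel))).trans (by decide)
theorem o18 : orderOf (wd x18) = 6 := orderOf_eq (pv_pt e18) (ps := [2, 3]) (by norm_num) (by norm_num)
  (by decide +kernel) (by norm_num)
theorem f18 : fixN (wd x18) = 2 := by
  rw [← pow_one (wd x18), fixN_pow (pv_pt e18)]
  decide +kernel
theorem g18 : fixN (wd x18 ^ 2) = 54 := by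
  rw [fixN_pow (pv_pt e18)]
  decide +kernel
theorem a18 : adjN R (wd x18) = 180 := by
  rw [adjN_val (f := lk t18) e18]
  decide +kernel

def x19 : List ℕ := [6, 4, 0, 1, 2, 7, 5]
private def t19 : ℕ := nat_lit 0xb61210725bc938362d24901e16022c0a4af91404e5848a82822e4748d1792e65d81a83205e5a09403a2d64941b96e2440f4b110f0585908802a2c6438159722ea5e08d91823c0cc1802d2e048c1d96a2400e0b692607c59c888262cc44812165226094ba1772e247c8e1190680c4170621ee4a4308f62541807c12b0d84249b06f2184cc391062721ac328681fe4087e13d2865002e8f925817c7d92d0bc3e89707120a4dc3a1082681b88593a2083f8808670d41909d94127c16c7a92f0b43d09805c1e64c43990d26a1b4839320e04289c0630cc1a47e9002064f0a113f15a08c4e0b00402645981d13e2d00b09816e04c4a8ba0322484188b0f01e84108a1181e4408ae038278588221362ac0f8a11760484b8b50302505c015122200440750ee1fc438890ec1f85901e13a2b00d89a15e084500b90342585e0171262d80a0901502985200d01e02c4308e0f6288548a70140300887d10a234528a31540400480e11e1f042149084374a38441b8520218db2aa164751520a63b4a78561e0130278491c6398749592ac570a58471b4530230d92941146c1500aa3b0a68581de54c290f22ba568ab8e21ca3a027048096510200e028a0fc6f946082378a70511d65502a0ee2a215c789582bc56c2504d0a0384720e71ac31c030d3194000680cd0063306b802192344040c61a80145f8c31823085e8c418a3005f0c819e004670d200e32c6a804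
private theorem e19 : ∀ i : Fin 378, lk t19 i = (wd x19 i : ℕ) := tb_eq (by (first | (rewrite [Cfsg.Agent.KOf078396.e20, Cfsg.Agent.KOf078396.e21, Cfsg.Agent.KOf078396.e24]; decide +kernel) | decide +kernel))
def l19 : List Lv := (beta% delta% lq2644d723fe fun a b c d _ _ =>
 (a (d 302 c (a (b 2 1)<|a (b 1 0)<|c) c 54)<|
 a (d 185 (a (b 302 1)<|a (b 261 1)<|a (b 219 0)<|a (b 108 0)<|a (b 259 0)<|c) (a (b 1 1)<|c) c 2)<|
 a (d 143 (a (b 302 1)<|a (b 177 1)<|a (b 185 0)<|a (b 261 0)<|a (b 219 0)<|a (b 204 0)<|a (b 152 0)<|a (b 287 0)<|c) c c 1)<|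
 a (d 140 (a (b 302 1)<|a (b 261 1)<|a (b 26 1)<|a (b 204 1)<|a (b 168 1)<|c) c c 1)<|
 a (d 216 (a (b 108 1)<|a (b 167 1)<|a (b 132 1)<|c) (a (b 1 1)<|a (b 2 0)<|c) c 1)<|
 a (d 272 (a (b 261 1)<|a (b 204 1)<|a (b 26 0)<|c) (a (b 2 1)<|a (b 1 0)<|c) c 1)<|
 a (d 290 (a (b 185 1)<|a (b 261 1)<|a (b 259 1)<|a (b 108 0)<|c) (a (b 3 1)<|c) c 1)<|c))
theorem b19 : Nat.card ↥(centralizer ({w2 x19} : Set ↥M2)) ≤ 108 :=
  (bndT e19 (l := l19) (m := 6) (by (first | (rewrite [Cfsg.Agent.KOf078396.e17, Cfsg.Agent.KOf078396.e18, Cfsg.Agent.KOf078396.e19]; decide +kernel) | decide +kernel))).trans (by decide)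
theorem o19 : orderOf (wd x19) = 6 := orderOf_eq (pv_pt e19) (ps := [2, 3]) (by norm_num) (by norm_num)
  (by decide +kernel) (by norm_num)
theorem f19 : fixN (wd x19) = 3 := by
  rw [← pow_one (wd x19), fixN_pow (pv_pt e19)]
  decide +kernel
theorem g19 : fixN (wd x19 ^ 2) = 9 := by
  rw [fixN_pow (pv_pt e19)]
  decide +kernel
theorem a19 : adjN R (wd x19) = 99 := by
  rw [adjN_val (f := lk t19) e19]
  decide +kernel

def x20 : List ℕ := [1, 6, 5, 4]
private def t20 : ℕ := nat_lit 0xb204b20e1408496121659c248432d63f0b490108c40c201700ac5d87a0582e23dc289781f4528938640d051c911230d25108f1530b41748c95229c1808d15c2281b4ad90e0e255c888722604b49502f05a0b8750eb1d84cc991341d03a4738260520b07003a27c3681d9401ba0e49f9120e8558ad10f0e01b0af11529e1848d9172a01782d91f2a8494a306a242524331262981947d9790a45c82c8f80a83d4ba1020825bc239682005b47f0442cc1208616009e428b184d20a36c6c0de28450ca083c07c0f4150270484e89c1391c8398728341de4a4198ee2580d47692f1800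5c5a8bd0342e06181417632c5600c1902bc078ce164024510201a8294118d11500746b8a91aa06c530cf04228c6901e0143345881018e2b8068ca15604c5e0c50322e45f81616c3083b87d0f42244788c100218418931282544b097130240488921342080189910a0144d87f0082804580013e238010a11100044e87900c2703e00813c1d80394b25018c359452484803394822c57437073226560ac86f220474aa85c238534311182a217cb104c20c1288696521057c270552ea3ccbb8f90a63d82b9732d81087e96e07e410b50451fe4c49592e0640c4180f01e43c49d93c27a37c6e0d906e0d81c0251c44d8158e126e0a0719351820545a0c40242e85f01816e34c5201f1ac2a80e0d014e088070ad19202c598cc0222c0630810fc2103c0750f62284388d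
private theorem e20 : ∀ i : Fin 378, lk t20 i = (wd x20 i : ℕ) := tb_eq (by decide +kernel)
def l20 : List Lv := (beta% delta% lq2644d723fe fun a b c d _ _ =>
 (a (d 51 c (a (b 3 1)<|a (b 1 0)<|c) c 108)<|
 a (d 358 (a (b 221 1)<|a (b 299 1)<|a (b 234 1)<|c) (a (b 1 0)<|c) c 4)<|
 a (d 324 (a (b 221 1)<|a (b 85 1)<|a (b 80 1)<|c) (a (b 3 0)<|a (b 2 1)<|c) c 2)<|
 a (d 143 (a (b 299 1)<|a (b 61 1)<|a (b 251 1)<|c) (a (b 2 0)<|c) c 1)<|
 a (d 140 (a (b 157 1)<|a (b 299 1)<|a (b 272 1)<|c) (a (b 2 0)<|a (b 1 1)<|c) c 1)<|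
 a (d 216 (a (b 374 1)<|a (b 99 1)<|a (b 131 1)<|a (b 157 1)<|a (b 134 1)<|c) c c 1)<|
 a (d 26 (a (b 140 1)<|a (b 51 1)<|a (b 241 1)<|c) (a (b 2 2)<|c) c 1)<|
 a (d 290 (a (b 299 1)<|a (b 358 1)<|a (b 251 1)<|a (b 317 0)<|c) (a (b 1 0)<|c) c 1)<|c))
theorem b20 : Nat.card ↥(centralizer ({w2 x20} : Set ↥M2)) ≤ 864 :=
  (bndT e20 (l := l20) (m := 6) (by (first | (rewrite [Cfsg.Agent.KOf078396.e17, Cfsg.Agent.KOf078396.e18, Cfsg.Agent.KOf078396.e19]; decide +kernel) | decide +kernel))).trans (by decide)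
theorem o20 : orderOf (wd x20) = 6 := orderOf_eq (pv_pt e20) (ps := [2, 3]) (by norm_num) (by norm_num)
  (by decide +kernel) (by norm_num)
theorem f20 : fixN (wd x20) = 5 := by
  rw [← pow_one (wd x20), fixN_pow (pv_pt e20)]
  decide +kernel
theorem g20 : fixN (wd x20 ^ 2) = 45 := by
  rw [fixN_pow (pv_pt e20)]
  decide +kernel
theorem a20 : adjN R (wd x20) = 99 := by
  rw [adjN_val (f := lk t20) e20]
  decide +kernel

def x21 : List ℕ := [0, 7, 1, 2, 3, 6, 0, 7, 1, 2, 3, 6]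
private def t21 : ℕ := nat_lit 0x928e61f049c740fa240384798111be44c859020003b00c91b23443c0190d1e202c6d90102c1103f96108c1e8b183f11a594ac16a2621841e84f13e30c588292e43505205726a5284b8652860bc4613e0661d89e0311085dc318aa1a25242c02a1284d0ab05d13812c571291805a01c8cf144240bc93a2980a02a86708a1e0b104111c59c218802c026c3015a2dc3101b04d2602bc4d0502da178950c22ba2cc1b8b418c1d45c8cb10c2ec6688b0d4248a382b1a65cc288a92700248f9031de0206e9082200609401c1f248c0f0f524208c7b8ee20e0407001720001c891190581a02b0d512c2a0ba94826c17c958c1142124b795b1580f83808529c228aa86e2a01c83b9091fc014078de2223c00911d20c4606e0ea21c3f0050010280847a0e41ec3880f8e903a3ecae0c50902741d92f0c45b0568d60a652c1393312a5d0518692842f02008f0da5501716619c2dc2113b0de5343f15f1920c02394016a5483c87418e0d4b21162083c88b8d820a0100d00d1ce06c930e304449072820244478011151d6428060151fe3649b86b1a01484c17814c5181307d1902d8438cc174208650b82d62fc1e15e140168970b00981385f1592580e84f0b22e016c1a07c27e0c84093d05a224a09440cc24c2a0a5264348b882428a29c1286427235c488592ec4b4b49570940e02e0ab17a2644194f0e254c360880e61eca88061b43b48e0fd01c4500990c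
private theorem e21 : ∀ i : Fin 378, lk t21 i = (wd x21 i : ℕ) := tb_eq (by (first | (rewrite [Cfsg.Agent.KOf078396.e20, Cfsg.Agent.KOf078396.e21, Cfsg.Agent.KOf078396.e24]; decide +kernel) | decide +kernel))
def l21 : List Lv := (beta% delta% lq2644d723fe fun a b c d _ _ =>
 (a (d 360 c (a (b 1 1)<|c) c 72)<|
 a (d 333 (a (b 298 1)<|a (b 142 1)<|c) (a (b 1 1)<|c) c 12)<|
 a (d 272 (a (b 265 1)<|a (b 188 1)<|a (b 74 1)<|a (b 177 1)<|c) (a (b 3 0)<|c) c 2)<|
 a (d 143 (a (b 360 1)<|a (b 298 1)<|a (b 74 1)<|a (b 177 1)<|a (b 272 0)<|c) c c 1)<|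
 a (d 216 (a (b 265 1)<|a (b 283 1)<|a (b 47 1)<|a (b 130 1)<|a (b 74 1)<|c) c c 1)<|
 a (d 26 (a (b 142 1)<|a (b 283 1)<|a (b 74 0)<|c) (a (b 1 1)<|c) c 1)<|
 a (d 290 (a (b 23 1)<|a (b 220 1)<|a (b 235 1)<|a (b 95 1)<|a (b 143 1)<|c) c c 1)<|c))
theorem b21 : Nat.card ↥(centralizer ({w2 x21} : Set ↥M2)) ≤ 1728 :=
  (bndT e21 (l := l21) (m := 6) (by (first | (rewrite [Cfsg.Agent.KOf078396.e17, Cfsg.Agent.KOf078396.e18, Cfsg.Agent.KOf078396.e19]; decide +kernel) | decide +kernel))).trans (by decide)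
theorem o21 : orderOf (wd x21) = 6 := orderOf_eq (pv_pt e21) (ps := [2, 3]) (by norm_num) (by norm_num)
  (by decide +kernel) (by norm_num)
theorem f21 : fixN (wd x21) = 6 := by
  rw [← pow_one (wd x21), fixN_pow (pv_pt e21)]
  decide +kernel
theorem g21 : fixN (wd x21 ^ 2) = 54 := by
  rw [fixN_pow (pv_pt e21)]
  decide +kernel
theorem a21 : adjN R (wd x21) = 72 := by
  rw [adjN_val (f := lk t21) e21]
  decide +kernel

def x22 : List ℕ := [6, 1, 0, 7, 2, 4]
private def t22 : ℕ := nat_lit 0xba86f1b83e4ae8360ae44c9e0ff23a384b515526e1142e02b0ce4a0a290d2be130958311e43d88b0df0aa1cc1b9772b24ecb605f1c41088c1361fa544129082c4128359202964c4190f00a65606c9732200e07986e27a0fca68e32081889a96e2380a08316509c18c9214825c0c07892509e4a4351601de518850340b611c15117204390a796d2744483615a2e43ec2a03c28436ca4966258484860ee0cc120199501fc09c309681cc47c209382f23d42c90f0e85781f1431b01948292f298134769262c60d48d96f048550220e50bc4009c9150e0558ba0f80a40f4a0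8de1a40683e8cf02e2186a81411e3285609718e2c84a0cd15e2444c88e0102704280213e1f0028a61861dc548bd10028c600890143384b00d19024c080cb1202684580613a208000a00f200c0d8b50f40785d8830422e0460ae01e2605880c12a2ac048920262e4610a204635c4d88800e0585e0bf1500806889e0fe0040c8b618a2940e8d41421d8020712ec368ad8f40764382b14024e424759472ce4b43484b05a5ac808400524c8749190c054c8a0f71c01b42c03a2b85c49f0682c83a8918502605288582f23c174a70262663a0b490308655c288dd2225e01c8721f44fca20491d81908392a2445841711a0b4548b80fc08c0b09a0e718829c3a8c114821c5f0aa0fc3580908a1a60603c0d002a2045800b1922b4088cc1660386302216e2340e0b40f607c5d084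
private theorem e22 : ∀ i : Fin 378, lk t22 i = (wd x22 i : ℕ) := tb_eq (by (first | (rewrite [Cfsg.Agent.KOf078396.e20, Cfsg.Agent.KOf078396.e21, Cfsg.Agent.KOf078396.e24]; decide +kernel) | decide +kernel))
def l22 : List Lv := (beta% delta% lq2644d723fe fun a b c d _ _ =>
 (a (d 26 c (a (b 2 2)<|a (b 1 0)<|c) c 12)<|
 a (d 302 (a (b 214 1)<|a (b 26 0)<|c) (a (b 1 0)<|a (b 3 0)<|c) c 18)<|
 a (d 82 (a (b 26 1)<|a (b 214 1)<|a (b 353 1)<|a (b 46 1)<|c) (a (b 1 0)<|c) c 2)<|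
 a (d 123 (a (b 214 1)<|a (b 353 1)<|a (b 45 1)<|a (b 46 1)<|c) (a (b 1 1)<|c) c 2)<|
 a (d 143 (a (b 302 1)<|a (b 299 1)<|a (b 153 1)<|a (b 140 0)<|c) (a (b 1 0)<|c) c 1)<|
 a (d 216 (a (b 46 1)<|a (b 45 1)<|a (b 99 1)<|a (b 82 1)<|c) (a (b 1 0)<|c) c 1)<|
 a (d 272 (a (b 82 1)<|a (b 315 1)<|a (b 123 1)<|a (b 26 0)<|c) (a (b 1 1)<|c) c 1)<|
 a (d 290 (a (b 299 1)<|a (b 45 1)<|a (b 54 1)<|a (b 82 1)<|a (b 197 1)<|c) c c 1)<|c))
theorem b22 : Nat.card ↥(centralizer ({w2 x22} : Set ↥M2)) ≤ 864 :=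
  (bndT e22 (l := l22) (m := 6) (by (first | (rewrite [Cfsg.Agent.KOf078396.e17, Cfsg.Agent.KOf078396.e18, Cfsg.Agent.KOf078396.e19]; decide +kernel) | decide +kernel))).trans (by decide)
theorem o22 : orderOf (wd x22) = 6 := orderOf_eq (pv_pt e22) (ps := [2, 3]) (by norm_num) (by norm_num)
  (by decide +kernel) (by norm_num)
theorem f22 : fixN (wd x22) = 6 := by
  rw [← pow_one (wd x22), fixN_pow (pv_pt e22)]
  decide +kernel
theorem g22 : fixN (wd x22 ^ 2) = 36 := by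
  rw [fixN_pow (pv_pt e22)]
  decide +kernel
theorem a22 : adjN R (wd x22) = 126 := by
  rw [adjN_val (f := lk t22) e22]
  decide +kernel

def x23 : List ℕ := [6, 3, 1, 0, 5, 7]
private def t23 : ℕ := nat_lit 0xa286324006c678a32e23d02885c29a460558c70145a4200fc0dc5608801316c2fc249072c22e00b8c322856c3904c2ca420060af19c478301521fe5b8210a504035ca386924e3d82a9770740ec1c8f21e23c0418861000981482c26e4d49b09812e2584f0880082704700513a22c0186b2505205301e1aa5e07b8562a24743100d15c334b80432021ccac91602c2e46284b21259c5e8b502855c3690e09457c830c80122b02d14e2323f4b503f144074689440c8488798532e64fc9f1400640c41808911823c738e81d2094158281262544a0a01040185087f00e27c4280824852c338d2152084bb0fa0b04702f9551940405896b08c40c3795d2260645e0c20a042cb201a1802ec389112b8138b110d16432c079532341748216c08a2a0118d42941a0918f90ae5d46d0dd1c04b89892b0fa1dc3d1322684cc718e21c2244480921d64b4168ec2540b87513005e4f46c83827637c1b93c1b80d84c87c0042683c8001361d80095a0e8454620b702a134b310a0d4524930d603e29c7c1790a8184a811f01c2c0660442005bc5201c1a0194909462e43d4290121682f8ab10f0d85802410515a02c6314f0b645c7f0412d00d41983428450ca087e1082041e83e0783bc770ed1142344393a1c80a89c0e604e4e4728241a62a811125298198ba0fb0b23040c0ba2241c0af16309e430598111925502f11b20411cb68db1bc360979292581d43c07b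
private theorem e23 : ∀ i : Fin 378, lk t23 i = (wd x23 i : ℕ) := tb_eq (by (first | (rewrite [Cfsg.Agent.KOf078396.e20, Cfsg.Agent.KOf078396.e21, Cfsg.Agent.KOf078396.e24]; decide +kernel) | decide +kernel))
def l23 : List Lv := (beta% delta% lq2644d723fe fun a b c d _ _ =>
 (a (d 137 c (a (b 3 0)<|a (b 1 0)<|a (b 2 0)<|c) c 48)<|
 a (d 147 (a (b 236 1)<|a (b 235 1)<|c) (a (b 1 1)<|a (b 2 0)<|c) c 12)<|
 a (d 246 (a (b 143 1)<|a (b 234 1)<|a (b 147 1)<|c) (a (b 1 1)<|c) c 3)<|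
 a (d 216 (a (b 147 1)<|a (b 149 1)<|a (b 246 1)<|a (b 137 0)<|a (b 234 0)<|c) (a (b 1 0)<|c) c 1)<|
 a (d 26 (a (b 140 1)<|a (b 227 1)<|a (b 246 1)<|c) (a (b 3 2)<|c) c 1)<|
 a (d 272 (a (b 140 1)<|a (b 234 1)<|a (b 149 1)<|a (b 226 1)<|a (b 246 0)<|c) c c 1)<|c))
theorem b23 : Nat.card ↥(centralizer ({w2 x23} : Set ↥M2)) ≤ 1728 :=
  (bndT e23 (l := l23) (m := 6) (by (first | (rewrite [Cfsg.Agent.KOf078396.e17, Cfsg.Agent.KOf078396.e18, Cfsg.Agent.KOf078396.e19]; decide +kernel) | decide +kernel))).trans (by decide)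
theorem o23 : orderOf (wd x23) = 6 := orderOf_eq (pv_pt e23) (ps := [2, 3]) (by norm_num) (by norm_num)
  (by decide +kernel) (by norm_num)
theorem f23 : fixN (wd x23) = 8 := by
  rw [← pow_one (wd x23), fixN_pow (pv_pt e23)]
  decide +kernel
theorem g23 : fixN (wd x23 ^ 2) = 36 := by
  rw [fixN_pow (pv_pt e23)]
  decide +kernel
theorem a23 : adjN R (wd x23) = 180 := by
  rw [adjN_val (f := lk t23) e23]
  decide +kernel

def x24 : List ℕ := [3, 2, 6, 1]
private def t24 : ℕ := nat_lit 0x368ee14a49c5e83d10e154830e504e4e83015223c5a87e83f186190a18a206856c3f04c2e61b0879562501aca408e13a0108b82c19a4d4a880b0863f84c03b1725180e0f022c12cb90830dc07c1812627e2d8461611f00381285c18e540748951f85bc850f400e280b30512e2214268d12280cc0b942288204299080122b064139054398b70ff08451c1e0b521c0807788d0945dc6781b146054620b70fe27c030e815618466028230100800930d45005f8312b029c249791123407915902c1941c8862ce3d48e8ad26c16c1300d12e404b41051ee0144f1600ac5e04584825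808cae0d80d02ec3d85721a468a985d1962c80796c2081146f01a2464a4388d40f0138ba92a1d40b46f93c0701e44d8020205509905f16638c23102122064928da0de34c970502e81f4989131543746114c0ee5907d8e22aa3249a0b12362408196d17452c1b93d18219c920dc0305785482e1d6448108d22601c0860fa000264b18582ec1d8278132924f86b03222023c838542b41d08a94524018c0408214239c0511f1600aca6969088250090b417c3545301e11000c4e0a40e63c41d12118a424400520c44dc6302929e2b82097012c0501f0691ae55c7688a1ec57c1a87203a2e0911411e6210b28e4232030671380b4538578241b20d89d92d05e3b03e001134574958221783803310b0f41640891c1c21786513308e5ac490a825e444a50db1803e43a962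
private theorem e24 : ∀ i : Fin 378, lk t24 i = (wd x24 i : ℕ) := tb_eq (by decide +kernel)
def l24 : List Lv := (beta% delta% lq2644d723fe fun a b c d _ _ =>
 (a (d 83 c (a (b 3 1)<|a (b 1 0)<|c) c 54)<|
 a (d 263 (a (b 289 1)<|a (b 136 1)<|a (b 83 0)<|c) (a (b 3 1)<|c) c 2)<|
 a (d 143 (a (b 289 1)<|a (b 76 1)<|a (b 244 1)<|c) (a (b 2 0)<|c) c 4)<|
 a (d 271 (a (b 110 1)<|a (b 83 1)<|a (b 289 1)<|a (b 377 0)<|c) (a (b 2 0)<|c) c 2)<|
 a (d 140 (a (b 271 1)<|a (b 263 1)<|a (b 83 0)<|a (b 143 0)<|c) (a (b 2 2)<|c) c 1)<|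
 a (d 216 (a (b 83 1)<|a (b 110 1)<|a (b 74 1)<|a (b 76 0)<|c) (a (b 1 1)<|c) c 1)<|
 a (d 272 (a (b 109 1)<|a (b 377 1)<|a (b 304 1)<|a (b 323 1)<|a (b 26 0)<|c) c c 1)<|
 a (d 290 (a (b 143 1)<|a (b 220 1)<|a (b 244 1)<|c) (a (b 2 0)<|c) c 1)<|c))
theorem b24 : Nat.card ↥(centralizer ({w2 x24} : Set ↥M2)) ≤ 864 :=
  (bndT e24 (l := l24) (m := 6) (by (first | (rewrite [Cfsg.Agent.KOf078396.e17, Cfsg.Agent.KOf078396.e18, Cfsg.Agent.KOf078396.e19]; decide +kernel) | decide +kernel))).trans (by decide)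
theorem o24 : orderOf (wd x24) = 6 := orderOf_eq (pv_pt e24) (ps := [2, 3]) (by norm_num) (by norm_num)
  (by decide +kernel) (by norm_num)
theorem f24 : fixN (wd x24) = 9 := by
  rw [← pow_one (wd x24), fixN_pow (pv_pt e24)]
  decide +kernel
theorem g24 : fixN (wd x24 ^ 2) = 45 := by
  rw [fixN_pow (pv_pt e24)]
  decide +kernel
theorem a24 : adjN R (wd x24) = 99 := by
  rw [adjN_val (f := lk t24) e24]
  decide +kernel

def x25 : List ℕ := [6, 4, 2]
private def t25 : ℕ := nat_lit 0x8105f2644343412c1f41c09e8f60c24a88287126e40c319420de1a82d1041ea4249893927c4203a1341ee188949000d24f0860672604042d9361e61c8a08ff1f641c398650ba4b89c1401e8190998fe0d84bc8305c2763f03692d1f21ac9a90a0bc50c7e8f82161b8330602564e89f9122ec0dc8e96804c488b2835220590151212d80e48c97406246c901142c05d4b803e0500b49396f06c43cb102c2385c41a11e2d409c8b172076498b08302cc5ccb59172504441e82505e460af8382465e0149152da0cc92979048468b383a2265b81911f248438b19772d20f01582e0442f0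3d01c17220c0f8b6118044510850162a04700e14a1f04d09510e2744c0751402483f00c14e1f4078a410c0245508f0362dc3f81e168220108ba0ec26c4988a13c2583c0a1120204098ac0ee058590800322bc448171622080d0ae116050558790140800c0b51522c04c89411a034118121762985689c12e1ec0801d02a2e0518b313e2444215d0b2380a903f1ca518258f02a01547615b09a384a40431b611c260511dc364749562a2528a48421ba560280e42a61487914b09e3acaa0461c65702b8d82b4554a20ed1be3a02084e0ac538248da2981507315908a3c4ab8401d4514298e229e1206f15e29a51c2204a0b03bc6e0e719835c010c91a2020630d400a31067806182348000be1aa00c670bf1a6320610d6196314680ca18601c638bd00233460004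
private theorem e25 : ∀ i : Fin 378, lk t25 i = (wd x25 i : ℕ) := tb_eq (by decide +kernel)
def l25 : List Lv := (beta% delta% lq2644d723fe fun a b c d _ _ =>
 (a (d 149 c (a (b 2 0)<|a (b 1 0)<|c) c 36)<|
 a (d 337 (a (b 149 1)<|c) (a (b 2 2)<|a (b 1 1)<|c) c 6)<|
 a (d 78 (a (b 196 1)<|a (b 337 0)<|a (b 91 0)<|c) (a (b 1 0)<|a (b 2 1)<|c) c 18)<|
 a (d 21 (a (b 149 1)<|a (b 64 1)<|a (b 261 1)<|a (b 337 0)<|a (b 91 0)<|a (b 52 0)<|c) c c 2)<|
 a (d 143 (a (b 196 1)<|a (b 91 1)<|a (b 78 1)<|a (b 365 1)<|c) (a (b 1 0)<|c) c 1)<|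
 a (d 140 (a (b 26 1)<|a (b 337 1)<|a (b 64 1)<|a (b 180 0)<|c) (a (b 2 1)<|c) c 1)<|
 a (d 216 (a (b 149 1)<|a (b 337 1)<|a (b 175 1)<|a (b 64 1)<|a (b 126 1)<|c) c c 1)<|
 a (d 272 (a (b 149 1)<|a (b 52 1)<|a (b 365 1)<|a (b 261 1)<|a (b 21 1)<|c) c c 1)<|
 a (d 290 (a (b 78 1)<|a (b 140 0)<|c) (a (b 1 2)<|c) c 1)<|c))
theorem b25 : Nat.card ↥(centralizer ({w2 x25} : Set ↥M2)) ≤ 7776 :=
  (bndT e25 (l := l25) (m := 6) (by (first | (rewrite [Cfsg.Agent.KOf078396.e17, Cfsg.Agent.KOf078396.e18, Cfsg.Agent.KOf078396.e19]; decide +kernel) | decide +kernel))).trans (by decide)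
theorem o25 : orderOf (wd x25) = 6 := orderOf_eq (pv_pt e25) (ps := [2, 3]) (by norm_num) (by norm_num)
  (by decide +kernel) (by norm_num)
theorem f25 : fixN (wd x25) = 9 := by
  rw [← pow_one (wd x25), fixN_pow (pv_pt e25)]
  decide +kernel
theorem g25 : fixN (wd x25 ^ 2) = 45 := by
  rw [fixN_pow (pv_pt e25)]
  decide +kernel
theorem a25 : adjN R (wd x25) = 171 := by
  rw [adjN_val (f := lk t25) e25]
  decide +kernel

end Cfsg.Agent.H235.QS.O7C
end

-- part: H235/QS/O7L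
section
set_option linter.all false
open scoped Cfsg.Agent.FastGrp

/-!
# The classes of `Ω₇(3)` under `SO₇(3)` (helper235)

`classes` : the 52 classes of `SO₇(3)` contained in `Ω₇(3)`; `all_H8` : a property of the elements of `H8` (the
presented group isomorphic to `PΩ₇(3)`) which is invariant under automorphisms holds everywhere if it holds for the
representatives.
-/

set_option autoImplicit false
set_option maxRecDepth 100000

namespace Cfsg.Agent.H235.QS.O7L

open Cfsg.Agent.H235.Ore.Eng Cfsg.Agent.H235.QS.O7C Subgroup Equiv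
open Cfsg.Agent.H235.QS.O7M hiding x13 o13
open Cfsg.Agent.Fischer.Derived Cfsg.Agent.Fischer.Y322

/-! ### The two classes of elements of order 13 -/

theorem x45_eq : wd x45 = wd x44 ^ 2 := by
  rw [pow_two, ← wd_append]
  rfl

theorem nc : ncOk 378 R (pw x44) 13 2 1 0 [(1, 1), (2, 1), (4, 1)] [] [] = true := by decide +kernel

theorem not_conj : ¬ IsConj (w2 x44) (w2 x45) := by
  intro k
  obtain ⟨c, hc⟩ := isConj_iff.1 k
  refine not_pow_of (pv_pw x44) nc (by rw [← o44, pow_orderOf_eq_one]) (G := M2) (fun g hg => R_inv (M2_le hg))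
    (K0_le_M2 (wd_mem _)) c.2 ?_
  rw [← x45_eq]
  exact congrArg Subtype.val hc

/-! ### The list -/

open Classical in
/-- order, fixed points, adjacencies, fixed points of the square, a bit -/
noncomputable def inv (g : ↥M2) : ℕ × ℕ × ℕ × ℕ × ℕ :=
  (orderOf (g : Perm (Fin 378)), fixN (g : Perm (Fin 378)), adjN R (g : Perm (Fin 378)),
    fixN ((g : Perm (Fin 378)) ^ 2), if IsConj (w2 x44) g then 1 else 0)

theorem inv_conj {g h : ↥M2} (k : IsConj g h) : inv g = inv h := by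
  unfold inv
  have h1 : IsConj (w2 x44) g ↔ IsConj (w2 x44) h := ⟨fun t => t.trans k, fun t => t.trans k.symm⟩
  obtain ⟨c, hc⟩ := isConj_iff.1 k
  have e : (h : Perm (Fin 378)) = (c : Perm (Fin 378)) * g * (c : Perm (Fin 378))⁻¹ := by rw [← hc]; rfl
  have h2 : orderOf (g : Perm (Fin 378)) = orderOf (h : Perm (Fin 378)) := by
    rw [e]
    exact ((MulAut.conj (c : Perm (Fin 378))).orderOf_eq (g : Perm (Fin 378))).symm
  have h3 : fixN (g : Perm (Fin 378)) = fixN (h : Perm (Fin 378)) := by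
    rw [e]
    exact (fixN_conj (c : Perm (Fin 378)) g).symm
  have h4 : adjN R (g : Perm (Fin 378)) = adjN R (h : Perm (Fin 378)) := by
    rw [e]
    exact (adjN_conj (R_inv (M2_le c.2)) g).symm
  have h5 : fixN ((g : Perm (Fin 378)) ^ 2) = fixN ((h : Perm (Fin 378)) ^ 2) := by
    rw [e, conj_pow]
    exact (fixN_conj (c : Perm (Fin 378)) _).symm
  rw [h2, h3, h4, h5]
  by_cases t : IsConj (w2 x44) g
  · rw [if_pos t, if_pos (h1.1 t)]
  · rw [if_neg t, if_neg fun k => t (h1.2 k)]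

noncomputable def invC : ConjClasses ↥M2 → ℕ × ℕ × ℕ × ℕ × ℕ := Quotient.lift inv fun _ _ h => inv_conj h

theorem inv_w2' {X : List ℕ} {o f a g : ℕ} (ho : orderOf (wd X) = o) (hf : fixN (wd X) = f) (ha : adjN R (wd X) = a)
    (hg : fixN (wd X ^ 2) = g) (h1 : ¬ IsConj (w2 x44) (w2 X)) : inv (w2 X) = (o, f, a, g, 0) := by
  show (orderOf (wd X), fixN (wd X), adjN R (wd X), fixN (wd X ^ 2), _) = _
  rw [ho, hf, ha, hg, if_neg h1]

theorem inv_w2 {X : List ℕ} {o f a g : ℕ} (ho : orderOf (wd X) = o) (hf : fixN (wd X) = f) (ha : adjN R (wd X) = a)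
    (hg : fixN (wd X ^ 2) = g) (h : o ≠ 13) : inv (w2 X) = (o, f, a, g, 0) := by
  refine inv_w2' ho hf ha hg fun k => ?_
  have h2 := congrArg Prod.fst (inv_conj k)
  have h3 : orderOf (wd x44) = orderOf (wd X) := h2
  rw [o44, ho] at h3
  exact h h3.symm

/-- the list of the classes with the orders of the centralizers -/
noncomputable def L : List (↥M2 × ℕ) :=
  [(1, Nat.card ↥M2), (w2 x44, 26), (w2 x01, 27648), (w2 x02, 414720), (w2 x03, 26127360), (w2 x04, 17496), (w2 x05, 5832), (w2 x06, 2916), (w2 x07, 279936), (w2 x08, 349920), (w2 x09, 1259712), (w2 x10, 768), (w2 x11, 384), (w2 x12, 2304), (w2 x13, 5760), (w2 x14, 240), (w2 x15, 216), (w2 x16, 648), (w2 x17, 108), (w2 x18, 5184), (w2 x19, 108), (w2 x20, 864), (w2 x21, 1728), (w2 x22, 864), (w2 x23, 1728), (w2 x24, 864), (w2 x25, 7776), (w2 x26, 3456), (w2 x27, 7776), (w2 x28, 46656), (w2 x29, 28), (w2 x30, 32), (w2 x31, 32), (w2 x32, 27), (w2 x33, 324), (w2 x34, 648),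 (w2 x35, 40), (w2 x36, 80), (w2 x37, 36), (w2 x38, 288), (w2 x39, 48), (w2 x40, 144), (w2 x41, 96), (w2 x42, 144), (w2 x43, 288), (w2 x45, 26), (w2 x46, 28), (w2 x47, 30), (w2 x48, 108), (w2 x49, 72), (w2 x50, 108), (w2 x51, 40)]

def V : List (ℕ × ℕ × ℕ × ℕ × ℕ) := [(1, 378, 0, 378, 0), (13, 1, 117, 1, 1), (2, 18, 72, 378, 0), (2, 38, 180, 378, 0), (2, 126, 252, 378, 0), (3, 0, 0, 0, 0), (3, 0, 162, 0, 0), (3, 9, 81, 9, 0), (3, 36, 0, 36, 0), (3, 45, 243, 45, 0), (3, 54, 0, 54, 0), (4, 2, 144, 18, 0), (4, 4, 126, 38, 0), (4, 6, 108, 18, 0), (4, 16, 162, 38, 0), (5, 3, 135, 3, 0), (6, 0, 72, 0, 0), (6, 0, 90, 0, 0), (6, 0, 126, 0, 0), (6, 2, 180, 54, 0), (6, 3, 99, 9, 0), (6, 5, 99, 45, 0), (6, 6, 72, 54, 0), (6, 6, 126, 36, 0), (6, 8, 180, 36, 0), (6, 9, 99, 45, 0), (6, 9, 171, 45, 0), (6, 12, 72, 36, 0), (6, 18, 90, 36, 0), (6, 18, 252, 54, 0), (7, 0, 126, 0, 0), (8, 0, 126, 2, 0), (8, 2, 108, 6, 0), (9, 0, 108, 0, 0), (9,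 3, 81, 3, 0), (9, 6, 162, 6, 0), (10, 1, 117, 3, 0), (10, 3, 135, 3, 0), (12, 0, 108, 0, 0), (12, 0, 108, 12, 0), (12, 1, 99, 5, 0), (12, 1, 135, 5, 0), (12, 2, 144, 6, 0), (12, 4, 108, 8, 0), (12, 6, 108, 6, 0), (13, 1, 117, 1, 0), (14, 0, 126, 0, 0), (15, 0, 108, 0, 0), (18, 0, 144, 6, 0), (18, 2, 126, 6, 0), (18, 3, 117, 3, 0), (20, 1, 117, 3, 0)]

theorem L_inv : L.map (fun p => inv p.1) = V := by
  have h1 : inv 1 = (1, 378, 0, 378, 0) := inv_w2 (X := []) (by rw [wd_nil, orderOf_one])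
    (by rw [wd_nil]; exact fixN_eq_n.2 rfl)
    (by rw [wd_nil, adjN_val (f := fun i => i) (fun i => rfl)]; decide +kernel)
    (by rw [wd_nil, one_pow]; exact fixN_eq_n.2 rfl) (by norm_num)
  have h2 : inv (w2 x44) = (13, 1, 117, 1, 1) := by
    show (orderOf (wd x44), fixN (wd x44), adjN R (wd x44), fixN (wd x44 ^ 2), _) = _
    rw [o44, f44, a44, g44, if_pos (IsConj.refl _)]
  simp only [L, V, List.map_cons, List.map_nil, h1, h2]
  rw [inv_w2 o01 f01 a01 g01 (by norm_num),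
    inv_w2 o02 f02 a02 g02 (by norm_num),
    inv_w2 o03 f03 a03 g03 (by norm_num),
    inv_w2 o04 f04 a04 g04 (by norm_num),
    inv_w2 o05 f05 a05 g05 (by norm_num),
    inv_w2 o06 f06 a06 g06 (by norm_num),
    inv_w2 o07 f07 a07 g07 (by norm_num),
    inv_w2 o08 f08 a08 g08 (by norm_num),
    inv_w2 o09 f09 a09 g09 (by norm_num),
    inv_w2 o10 f10 a10 g10 (by norm_num),
    inv_w2 o11 f11 a11 g11 (by norm_num),
    inv_w2 o12 f12 a12 g12 (by norm_num),
    inv_w2 o13 f13 a13 g13 (by norm_num),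
    inv_w2 o14 f14 a14 g14 (by norm_num),
    inv_w2 o15 f15 a15 g15 (by norm_num),
    inv_w2 o16 f16 a16 g16 (by norm_num),
    inv_w2 o17 f17 a17 g17 (by norm_num),
    inv_w2 o18 f18 a18 g18 (by norm_num),
    inv_w2 o19 f19 a19 g19 (by norm_num),
    inv_w2 o20 f20 a20 g20 (by norm_num),
    inv_w2 o21 f21 a21 g21 (by norm_num),
    inv_w2 o22 f22 a22 g22 (by norm_num),
    inv_w2 o23 f23 a23 g23 (by norm_num),
    inv_w2 o24 f24 a24 g24 (by norm_num),
    inv_w2 o25 f25 a25 g25 (by norm_num),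
    inv_w2 o26 f26 a26 g26 (by norm_num),
    inv_w2 o27 f27 a27 g27 (by norm_num),
    inv_w2 o28 f28 a28 g28 (by norm_num),
    inv_w2 o29 f29 a29 g29 (by norm_num),
    inv_w2 o30 f30 a30 g30 (by norm_num),
    inv_w2 o31 f31 a31 g31 (by norm_num),
    inv_w2 o32 f32 a32 g32 (by norm_num),
    inv_w2 o33 f33 a33 g33 (by norm_num),
    inv_w2 o34 f34 a34 g34 (by norm_num),
    inv_w2 o35 f35 a35 g35 (by norm_num),
    inv_w2 o36 f36 a36 g36 (by norm_num),
    inv_w2 o37 f37 a37 g37 (by norm_num),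
    inv_w2 o38 f38 a38 g38 (by norm_num),
    inv_w2 o39 f39 a39 g39 (by norm_num),
    inv_w2 o40 f40 a40 g40 (by norm_num),
    inv_w2 o41 f41 a41 g41 (by norm_num),
    inv_w2 o42 f42 a42 g42 (by norm_num),
    inv_w2 o43 f43 a43 g43 (by norm_num),
    inv_w2' o45 f45 a45 g45 not_conj,
    inv_w2 o46 f46 a46 g46 (by norm_num),
    inv_w2 o47 f47 a47 g47 (by norm_num),
    inv_w2 o48 f48 a48 g48 (by norm_num),
    inv_w2 o49 f49 a49 g49 (by norm_num),
    inv_w2 o50 f50 a50 g50 (by norm_num),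
    inv_w2 o51 f51 a51 g51 (by norm_num)]

theorem L_nodup : (L.map fun p => ConjClasses.mk p.1).Nodup := by
  apply List.Nodup.of_map invC
  rw [List.map_map]
  have h : L.map (invC ∘ fun p => ConjClasses.mk p.1) = V := L_inv
  rw [h]
  decide +kernel

theorem L_cent : ∀ p ∈ L, Nat.card ↥(centralizer ({p.1} : Set ↥M2)) ≤ p.2 := by
  have h1 : Nat.card ↥(centralizer ({1} : Set ↥M2)) ≤ Nat.card ↥M2 :=
    Nat.le_of_dvd Nat.card_pos (Subgroup.card_subgroup_dvd_card _)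
  intro p hp
  simp only [L, List.mem_cons, List.not_mem_nil, or_false] at hp
  rcases hp with rfl | rfl | rfl | rfl | rfl | rfl | rfl | rfl | rfl | rfl | rfl | rfl | rfl | rfl | rfl | rfl | rfl | rfl | rfl | rfl | rfl | rfl | rfl | rfl | rfl | rfl | rfl | rfl | rfl | rfl | rfl | rfl | rfl | rfl | rfl | rfl | rfl | rfl | rfl | rfl | rfl | rfl | rfl | rfl | rfl | rfl | rfl | rfl | rfl | rfl | rfl | rfl
  · exact h1
  · exact b44
  · exact b01
  · exact b02
  · exact b03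
  · exact b04
  · exact b05
  · exact b06
  · exact b07
  · exact b08
  · exact b09
  · exact b10
  · exact b11
  · exact b12
  · exact b13
  · exact b14
  · exact b15
  · exact b16
  · exact b17
  · exact b18
  · exact b19
  · exact b20
  · exact b21
  · exact b22
  · exact b23
  · exact b24
  · exact b25
  · exact b26
  · exact b27
  · exact b28
  · exact b29
  · exact b30
  · exact b31
  · exact b32
  · exact b33
  · exact b34
  · exact b35
  · exact b36
  · exact b37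
  · exact b38
  · exact b39
  · exact b40
  · exact b41
  · exact b42
  · exact b43
  · exact b45
  · exact b46
  · exact b47
  · exact b48
  · exact b49
  · exact b50
  · exact b51

theorem L_mem : ∀ p ∈ L, p.1 ∈ K := by
  intro p hp
  simp only [L, List.mem_cons, List.not_mem_nil, or_false] at hp
  rcases hp with rfl | h
  · exact one_mem _
  · obtain ⟨X, hX⟩ : ∃ X, p.1 = w2 X := by
      rcases h with rfl | rfl | rfl | rfl | rfl | rfl | rfl | rfl | rfl | rfl | rfl | rfl | rfl | rfl | rfl | rfl | rfl | rfl | rfl | rfl | rfl | rfl | rfl | rfl | rfl | rfl | rfl | rfl | rfl | rfl | rfl | rfl | rfl | rfl | rfl | rfl | rfl | rfl | rfl | rfl | rfl | rfl | rfl | rfl | rfl | rfl | rfl | rfl | rfl | rfl | rfl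
      all_goals exact ⟨_, rfl⟩
    rw [hX]
    exact w2_mem _

theorem classes {g : ↥M2} (hg : g ∈ K) : ∃ p ∈ L, IsConj p.1 g := by
  refine complete K L L_mem L_cent L_nodup ?_ hg
  rw [card_K]
  simp only [L, List.map_cons, List.map_nil, List.sum_cons, List.sum_nil]
  rw [Nat.div_self Nat.card_pos]
  have h := fun b : ℕ => Nat.div_le_div_right (c := b) card_M2
  generalize Nat.card ↥M2 = N at h ⊢
  refine le_trans (b := 1 + (9170703360 / 26 + (9170703360 / 27648 + (9170703360 / 414720 + (9170703360 / 26127360 + (9170703360 / 17496 + (9170703360 / 5832 + (9170703360 / 2916 + (9170703360 / 279936 + (9170703360 / 349920 + (9170703360 / 1259712 + (9170703360 / 768 + (9170703360 / 384 + (9170703360 / 2304 + (9170703360 / 5760 + (9170703360 / 240 + (9170703360 / 216 + (9170703360 / 648 + (9170703360 / 108 + (9170703360 / 5184 + (9170703360 / 108 + (9170703360 / 864 + (9170703360 / 1728 + (9170703360 / 864 + (9170703360 / 1728 + (9170703360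 / 864 + (9170703360 / 7776 + (9170703360 / 3456 + (9170703360 / 7776 + (9170703360 / 46656 + (9170703360 / 28 + (9170703360 / 32 + (9170703360 / 32 + (9170703360 / 27 + (9170703360 / 324 + (9170703360 / 648 + (9170703360 / 40 + (9170703360 / 80 + (9170703360 / 36 + (9170703360 / 288 + (9170703360 / 48 + (9170703360 / 144 + (9170703360 / 96 + (9170703360 / 144 + (9170703360 / 288 + (9170703360 / 26 + (9170703360 / 28 + (9170703360 / 30 + (9170703360 / 108 + (9170703360 / 72 + (9170703360 / 108 + (9170703360 / 40 + 0)))))))))))))))))))))))))))))))))))))))))))))))))))) (by norm_num) ?_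
  exact Nat.add_le_add le_rfl (Nat.add_le_add (h _) (Nat.add_le_add (h _) (Nat.add_le_add (h _) (Nat.add_le_add (h _) (Nat.add_le_add (h _) (Nat.add_le_add (h _) (Nat.add_le_add (h _) (Nat.add_le_add (h _) (Nat.add_le_add (h _) (Nat.add_le_add (h _) (Nat.add_le_add (h _) (Nat.add_le_add (h _) (Nat.add_le_add (h _) (Nat.add_le_add (h _) (Nat.add_le_add (h _) (Nat.add_le_add (h _) (Nat.add_le_add (h _) (Nat.add_le_add (h _) (Nat.add_le_add (h _) (Nat.add_le_add (h _) (Nat.add_le_add (h _) (Nat.add_le_add (h _) (Nat.add_le_add (h _) (Nat.add_le_add (h _) (Nat.add_le_add (h _) (Nat.add_le_add (h _) (Nat.add_le_add (h _) (Nat.add_le_add (h _) (Nat.add_le_add (h _) (Nat.add_le_add (h _) (Nat.add_le_add (h _) (Nat.add_le_add (h _) (Nat.add_le_add (h _) (Nat.add_le_add (h _) (Nat.add_le_add (h _) (Nat.add_le_add (h _) (Nat.add_le_add (h _) (Nat.add_le_add (h _) (Nat.add_le_add (h _) (Nat.add_le_add (h _) (Nat.add_le_add (h _) (Nat.add_le_add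 (h _) (Nat.add_le_add (h _) (Nat.add_le_add (h _) (Nat.add_le_add (h _) (Nat.add_le_add (h _) (Nat.add_le_add (h _) (Nat.add_le_add (h _) (Nat.add_le_add (h _) (Nat.add_le_add (h _) (Nat.add_le_add (h _) le_rfl)))))))))))))))))))))))))))))))))))))))))))))))))))

/-! ### The presented group -/

/-- the element of `H8` of a word -/
def el (X : List ℕ) : H8 := (X.map fun k => x8 ⟨Nat.mod k 8, Nat.mod_lt _ (by norm_num)⟩).prod

theorem el_append (v w : List ℕ) : el (v ++ w) = el v * el w := by unfold el; rw [List.map_append, List.prod_append]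

theorem ψ_el (X : List ℕ) : ψ (el X) = wd X := by
  unfold el wd
  rw [map_list_prod, List.map_map]
  congr 1

theorem el_reverse (w : List ℕ) : el w.reverse = (el w)⁻¹ := by
  apply ψ_injective
  rw [map_inv, ψ_el, ψ_el, wd_reverse]

theorem el_val (w : List (Fin 8)) : el (w.map Fin.val) = ev x8 w := by
  unfold el
  rw [ev, List.map_map]
  congr 1
  refine List.map_congr_left fun k _ => ?_
  show x8 _ = x8 k
  exact congrArg x8 (Fin.ext (Nat.mod_eq_of_lt k.2))

/-- conjugation by `m` as an automorphism of `K0` -/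
def cj (m : ↥M2) : ↥K0 ≃* ↥K0 where
  toFun g := ⟨m * g * (m : Perm (Fin 378))⁻¹, conj_mem m.2 g.2⟩
  invFun g := ⟨(m : Perm (Fin 378))⁻¹ * g * m, by
    have h := conj_mem (inv_mem m.2) g.2
    rwa [inv_inv] at h⟩
  left_inv g := Subtype.ext (by
    show (m : Perm (Fin 378))⁻¹ * (m * g * (m : Perm (Fin 378))⁻¹) * m = g
    group)
  right_inv g := Subtype.ext (by
    show (m : Perm (Fin 378)) * ((m : Perm (Fin 378))⁻¹ * g * m) * (m : Perm (Fin 378))⁻¹ = g
    group)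
  map_mul' a b := Subtype.ext (by
    show (m : Perm (Fin 378)) * (a * b) * (m : Perm (Fin 378))⁻¹ =
      (m * a * (m : Perm (Fin 378))⁻¹) * (m * b * (m : Perm (Fin 378))⁻¹)
    group)

/-- **Properties invariant under automorphisms hold everywhere if they hold for the representatives.** -/
theorem all_H8 (P : H8 → Prop) (hP : ∀ (α : H8 ≃* H8) (g : H8), P (α g) → P g) (h1 : P 1)
    (h01 : P (el x01)) (h02 : P (el x02)) (h03 : P (el x03)) (h04 : P (el x04)) (h05 : P (el x05)) (h06 : P (el x06)) (h07 : P (el x07)) (h08 : P (el x08)) (h09 : P (el x09)) (h10 : P (el x10)) (h11 : P (el x11)) (h12 : P (el x12)) (h13 : P (el x13)) (h14 : P (el x14)) (h15 : P (el x15)) (h16 : P (el x16)) (h17 : P (el x17)) (h18 : P (el x18)) (h19 : P (el x19)) (h20 : P (el x20)) (h21 : P (el x21)) (h22 : P (el x22)) (h23 : P (el x23)) (h24 : P (el x24)) (h25 : P (el x25)) (h26 : P (el x26)) (h27 : P (el x27)) (h28 : P (el x28)) (h29 : P (el x29)) (h30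 : P (el x30)) (h31 : P (el x31)) (h32 : P (el x32)) (h33 : P (el x33)) (h34 : P (el x34)) (h35 : P (el x35)) (h36 : P (el x36)) (h37 : P (el x37)) (h38 : P (el x38)) (h39 : P (el x39)) (h40 : P (el x40)) (h41 : P (el x41)) (h42 : P (el x42)) (h43 : P (el x43)) (h44 : P (el x44)) (h45 : P (el x45)) (h46 : P (el x46)) (h47 : P (el x47)) (h48 : P (el x48)) (h49 : P (el x49)) (h50 : P (el x50)) (h51 : P (el x51)) (g : H8) : P g := by
  obtain ⟨p, hp, hpg⟩ := classes (g := ⟨ψ g, K0_le_M2 (iso g).2⟩) (by rw [K, mem_subgroupOf]; exact (iso g).2)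
  obtain ⟨c, hc⟩ := isConj_iff.1 hpg.symm
  have key : ∀ X : List ℕ, wd X = p.1 → P (el X) → P g := by
    intro X hX h
    refine hP ((iso.trans (cj c)).trans iso.symm) g ?_
    have e : ((iso.trans (cj c)).trans iso.symm) g = el X := by
      show iso.symm (cj c (iso g)) = el X
      rw [MulEquiv.symm_apply_eq]
      apply Subtype.ext
      show (c : Perm (Fin 378)) * ψ g * (c : Perm (Fin 378))⁻¹ = ψ (el X)
      rw [ψ_el, hX]
      exact congrArg Subtype.val hc
    rw [e]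
    exact h
  simp only [L, List.mem_cons, List.not_mem_nil, or_false] at hp
  rcases hp with rfl | rfl | rfl | rfl | rfl | rfl | rfl | rfl | rfl | rfl | rfl | rfl | rfl | rfl | rfl | rfl | rfl | rfl | rfl | rfl | rfl | rfl | rfl | rfl | rfl | rfl | rfl | rfl | rfl | rfl | rfl | rfl | rfl | rfl | rfl | rfl | rfl | rfl | rfl | rfl | rfl | rfl | rfl | rfl | rfl | rfl | rfl | rfl | rfl | rfl | rfl | rfl
  · exact key [] rfl h1
  · exact key _ rfl h44
  · exact key _ rfl h01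
  · exact key _ rfl h02
  · exact key _ rfl h03
  · exact key _ rfl h04
  · exact key _ rfl h05
  · exact key _ rfl h06
  · exact key _ rfl h07
  · exact key _ rfl h08
  · exact key _ rfl h09
  · exact key _ rfl h10
  · exact key _ rfl h11
  · exact key _ rfl h12
  · exact key _ rfl h13
  · exact key _ rfl h14
  · exact key _ rfl h15
  · exact key _ rfl h16
  · exact key _ rfl h17
  · exact key _ rfl h18
  · exact key _ rfl h19
  · exact key _ rfl h20
  · exact key _ rfl h21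
  · exact key _ rfl h22
  · exact key _ rfl h23
  · exact key _ rfl h24
  · exact key _ rfl h25
  · exact key _ rfl h26
  · exact key _ rfl h27
  · exact key _ rfl h28
  · exact key _ rfl h29
  · exact key _ rfl h30
  · exact key _ rfl h31
  · exact key _ rfl h32
  · exact key _ rfl h33
  · exact key _ rfl h34
  · exact key _ rfl h35
  · exact key _ rfl h36
  · exact key _ rfl h37
  · exact key _ rfl h38
  · exact key _ rfl h39
  · exact key _ rfl h40
  · exact key _ rfl h41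
  · exact key _ rfl h42
  · exact key _ rfl h43
  · exact key _ rfl h45
  · exact key _ rfl h46
  · exact key _ rfl h47
  · exact key _ rfl h48
  · exact key _ rfl h49
  · exact key _ rfl h50
  · exact key _ rfl h51

/-- the representatives -/
def xs : List (List ℕ) := [x01, x02, x03, x04, x05, x06, x07, x08, x09, x10, x11, x12, x13, x14, x15, x16, x17, x18, x19, x20, x21, x22, x23, x24, x25, x26, x27, x28, x29, x30, x31, x32, x33, x34, x35, x36, x37, x38, x39, x40, x41, x42, x43, x44, x45, x46, x47, x48, x49, x50, x51]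

/-- **the classes of `H8` under automorphisms** -/
theorem cover (g : H8) : g = 1 ∨ ∃ X ∈ xs, ∃ α : H8 ≃* H8, α g = el X := by
  have m : ∀ X ∈ xs, (el X = 1 ∨ ∃ Y ∈ xs, ∃ α : H8 ≃* H8, α (el X) = el Y) :=
    fun X hX => Or.inr ⟨X, hX, MulEquiv.refl H8, rfl⟩
  refine all_H8 (fun g => g = 1 ∨ ∃ X ∈ xs, ∃ α : H8 ≃* H8, α g = el X) (fun α g h => ?_) (Or.inl rfl)
    (m x01 (by simp only [xs, _root_.List.mem_cons, _root_.List.not_mem_nil, _root_.or_false, _root_.true_or]))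
    (m x02 (by simp only [xs, _root_.List.mem_cons, _root_.List.not_mem_nil, _root_.or_false, _root_.true_or, _root_.or_true]))
    (m x03 (by simp only [xs, _root_.List.mem_cons, _root_.List.not_mem_nil, _root_.or_false, _root_.true_or, _root_.or_true]))
    (m x04 (by simp only [xs, _root_.List.mem_cons, _root_.List.not_mem_nil, _root_.or_false, _root_.true_or, _root_.or_true]))
    (m x05 (by simp only [xs, _root_.List.mem_cons, _root_.List.not_mem_nil, _root_.or_false, _root_.true_or, _root_.or_true]))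
    (m x06 (by simp only [xs, _root_.List.mem_cons, _root_.List.not_mem_nil, _root_.or_false, _root_.true_or, _root_.or_true]))
    (m x07 (by simp only [xs, _root_.List.mem_cons, _root_.List.not_mem_nil, _root_.or_false, _root_.true_or, _root_.or_true]))
    (m x08 (by simp only [xs, _root_.List.mem_cons, _root_.List.not_mem_nil, _root_.or_false, _root_.true_or, _root_.or_true]))
    (m x09 (by simp only [xs, _root_.List.mem_cons, _root_.List.not_mem_nil, _root_.or_false, _root_.true_or, _root_.or_true]))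
    (m x10 (by simp only [xs, _root_.List.mem_cons, _root_.List.not_mem_nil, _root_.or_false, _root_.true_or, _root_.or_true]))
    (m x11 (by simp only [xs, _root_.List.mem_cons, _root_.List.not_mem_nil, _root_.or_false, _root_.true_or, _root_.or_true]))
    (m x12 (by simp only [xs, _root_.List.mem_cons, _root_.List.not_mem_nil, _root_.or_false, _root_.true_or, _root_.or_true]))
    (m x13 (by simp only [xs, _root_.List.mem_cons, _root_.List.not_mem_nil, _root_.or_false, _root_.true_or, _root_.or_true]))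
    (m x14 (by simp only [xs, _root_.List.mem_cons, _root_.List.not_mem_nil, _root_.or_false, _root_.true_or, _root_.or_true]))
    (m x15 (by simp only [xs, _root_.List.mem_cons, _root_.List.not_mem_nil, _root_.or_false, _root_.true_or, _root_.or_true]))
    (m x16 (by simp only [xs, _root_.List.mem_cons, _root_.List.not_mem_nil, _root_.or_false, _root_.true_or, _root_.or_true]))
    (m x17 (by simp only [xs, _root_.List.mem_cons, _root_.List.not_mem_nil, _root_.or_false, _root_.true_or, _root_.or_true]))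
    (m x18 (by simp only [xs, _root_.List.mem_cons, _root_.List.not_mem_nil, _root_.or_false, _root_.true_or, _root_.or_true]))
    (m x19 (by simp only [xs, _root_.List.mem_cons, _root_.List.not_mem_nil, _root_.or_false, _root_.true_or, _root_.or_true]))
    (m x20 (by simp only [xs, _root_.List.mem_cons, _root_.List.not_mem_nil, _root_.or_false, _root_.true_or, _root_.or_true]))
    (m x21 (by simp only [xs, _root_.List.mem_cons, _root_.List.not_mem_nil, _root_.or_false, _root_.true_or, _root_.or_true]))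
    (m x22 (by simp only [xs, _root_.List.mem_cons, _root_.List.not_mem_nil, _root_.or_false, _root_.true_or, _root_.or_true]))
    (m x23 (by simp only [xs, _root_.List.mem_cons, _root_.List.not_mem_nil, _root_.or_false, _root_.true_or, _root_.or_true]))
    (m x24 (by simp only [xs, _root_.List.mem_cons, _root_.List.not_mem_nil, _root_.or_false, _root_.true_or, _root_.or_true]))
    (m x25 (by simp only [xs, _root_.List.mem_cons, _root_.List.not_mem_nil, _root_.or_false, _root_.true_or, _root_.or_true]))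
    (m x26 (by simp only [xs, _root_.List.mem_cons, _root_.List.not_mem_nil, _root_.or_false, _root_.true_or, _root_.or_true]))
    (m x27 (by simp only [xs, _root_.List.mem_cons, _root_.List.not_mem_nil, _root_.or_false, _root_.true_or, _root_.or_true]))
    (m x28 (by simp only [xs, _root_.List.mem_cons, _root_.List.not_mem_nil, _root_.or_false, _root_.true_or, _root_.or_true]))
    (m x29 (by simp only [xs, _root_.List.mem_cons, _root_.List.not_mem_nil, _root_.or_false, _root_.true_or, _root_.or_true]))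
    (m x30 (by simp only [xs, _root_.List.mem_cons, _root_.List.not_mem_nil, _root_.or_false, _root_.true_or, _root_.or_true]))
    (m x31 (by simp only [xs, _root_.List.mem_cons, _root_.List.not_mem_nil, _root_.or_false, _root_.true_or, _root_.or_true]))
    (m x32 (by simp only [xs, _root_.List.mem_cons, _root_.List.not_mem_nil, _root_.or_false, _root_.true_or, _root_.or_true]))
    (m x33 (by simp only [xs, _root_.List.mem_cons, _root_.List.not_mem_nil, _root_.or_false, _root_.true_or, _root_.or_true]))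
    (m x34 (by simp only [xs, _root_.List.mem_cons, _root_.List.not_mem_nil, _root_.or_false, _root_.true_or, _root_.or_true]))
    (m x35 (by simp only [xs, _root_.List.mem_cons, _root_.List.not_mem_nil, _root_.or_false, _root_.true_or, _root_.or_true]))
    (m x36 (by simp only [xs, _root_.List.mem_cons, _root_.List.not_mem_nil, _root_.or_false, _root_.true_or, _root_.or_true]))
    (m x37 (by simp only [xs, _root_.List.mem_cons, _root_.List.not_mem_nil, _root_.or_false, _root_.true_or, _root_.or_true]))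
    (m x38 (by simp only [xs, _root_.List.mem_cons, _root_.List.not_mem_nil, _root_.or_false, _root_.true_or, _root_.or_true]))
    (m x39 (by simp only [xs, _root_.List.mem_cons, _root_.List.not_mem_nil, _root_.or_false, _root_.true_or, _root_.or_true]))
    (m x40 (by simp only [xs, _root_.List.mem_cons, _root_.List.not_mem_nil, _root_.or_false, _root_.true_or, _root_.or_true]))
    (m x41 (by simp only [xs, _root_.List.mem_cons, _root_.List.not_mem_nil, _root_.or_false, _root_.true_or, _root_.or_true]))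
    (m x42 (by simp only [xs, _root_.List.mem_cons, _root_.List.not_mem_nil, _root_.or_false, _root_.true_or, _root_.or_true]))
    (m x43 (by simp only [xs, _root_.List.mem_cons, _root_.List.not_mem_nil, _root_.or_false, _root_.true_or, _root_.or_true]))
    (m x44 (by simp only [xs, _root_.List.mem_cons, _root_.List.not_mem_nil, _root_.or_false, _root_.true_or, _root_.or_true]))
    (m x45 (by simp only [xs, _root_.List.mem_cons, _root_.List.not_mem_nil, _root_.or_false, _root_.true_or, _root_.or_true]))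
    (m x46 (by simp only [xs, _root_.List.mem_cons, _root_.List.not_mem_nil, _root_.or_false, _root_.true_or, _root_.or_true]))
    (m x47 (by simp only [xs, _root_.List.mem_cons, _root_.List.not_mem_nil, _root_.or_false, _root_.true_or, _root_.or_true]))
    (m x48 (by simp only [xs, _root_.List.mem_cons, _root_.List.not_mem_nil, _root_.or_false, _root_.true_or, _root_.or_true]))
    (m x49 (by simp only [xs, _root_.List.mem_cons, _root_.List.not_mem_nil, _root_.or_false, _root_.true_or, _root_.or_true]))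
    (m x50 (by simp only [xs, _root_.List.mem_cons, _root_.List.not_mem_nil, _root_.or_false, _root_.true_or, _root_.or_true]))
    (m x51 (by simp only [xs, _root_.List.mem_cons, _root_.List.not_mem_nil, _root_.or_false, _root_.or_true])) g
  rcases h with h | ⟨X, hX, β, h⟩
  · exact Or.inl ((map_eq_one_iff α α.injective).1 h)
  · exact Or.inr ⟨X, hX, α.trans β, h⟩

end Cfsg.Agent.H235.QS.O7L

private theorem dce_a572874cf1d1 : _root_.True := by
  try have : _root_.True := by simp only [_root_.Cfsg.Agent.H235.QS.O7L.V.eq_1]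
  try have : _root_.True := by simp only [_root_.Cfsg.Agent.H235.QS.O7L.L.eq_1]
  try have : _root_.True := by simp only [_root_.Cfsg.Agent.H235.QS.O7L.xs.eq_1]
  exact _root_.True.intro
end
end
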